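/-
³D₄(q): the positive classes in their order and the commutators of two classes.
-/
import Cfsg.Agent.Lib.Twisted.D4Invol.Cells
import Cfsg.Agent.Lib.Schur.ChainLift

set_option autoImplicit false

namespace Cfsg.Agent.D4Stem

open Cfsg.Lie Cfsg.Agent.Chev
open Cfsg.Agent.RootBN (Data)
open Cfsg.Agent.Chev.BNSetup (tw3D4 tw3D4_axioms orbD4 orbD4_ok facts_chevD4)
open Cfsg.Agent.D4Invol (hn hT hax rootsF_facts)
open Cfsg.Agent.Schur.RootLift (V le_V V_empty V_mono)
open scoped commutatorElement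

/-- The positive classes in their order. -/
def posList : List (Fin 12) := [6, 10, 9, 11, 8, 7]

/-- The positive class with a given place. -/
def pos (i : ℕ) : Fin 12 := posList.getD i 7

theorem posList_eq_map : posList = (List.range 6).map pos := by decide +kernel

theorem pos_cover : ∀ o : Fin 12, 12 ≤ orbD4.repF 12 o → o ∈ posList := by decide +kernel

theorem pos_mem : ∀ i : Fin 6, 12 ≤ orbD4.repF 12 (pos i.val) := by decide +kernel

/-- The terms of commutators of two classes lie strictly between them. -/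
theorem interval_check : ∀ a b : Fin 6, a.val < b.val → ∀ r s : Fin 24, orbD4.orbF 12 r.val = pos a.val →
    orbD4.orbF 12 s.val = pos b.val →
    r.val ≠ s.val ∧ s.val ≠ chevD4.neg r.val ∧ ∀ x ∈ chevD4.commTerms r.val s.val,
      ∃ c : Fin 6, a.val < c.val ∧ c.val < b.val ∧ orbD4.orbF 12 x.1 = pos c.val := by decide +kernel

variable {K : Type*} [Field K] (φ : K ≃+* K)

/-- The root element. -/
local notation "X" => xg chevD4 K

/-- The whole class at a place. -/
noncomputable def Xo (i : ℕ) : Subgroup (GL chevD4.Idx K) := (tw3D4 φ).Xorb (pos i)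

/-- Its fixed part. -/
noncomputable def Xp (i : ℕ) : Subgroup (GL chevD4.Idx K) := (tw3D4 φ).X' (pos i)

theorem xg_mem_Xorb {r : ℕ} (hr : r < 24) {o : Fin 12} (h : orbD4.orbF 12 r = o) (t : K) :
    X r t ∈ (tw3D4 φ).Xorb o :=
  RootBN.Twist.X_le_Xorb (T := tw3D4 φ) (r := (⟨r, hn.symm ▸ hr⟩ : Fin chevD4.nroots)) h
    ((D4.good : Good chevD4).xg_mem_rootSubgroup r t)

/-- A subgroup containing the root elements of a class contains the class. -/
theorem Xorb_le_of (o : Fin 12) {L : Subgroup (GL chevD4.Idx K)}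
    (h : ∀ r : Fin 24, orbD4.orbF 12 r.val = o → ∀ t : K, X r.val t ∈ L) : (tw3D4 φ).Xorb o ≤ L :=
  iSup₂_le fun r hr y hy => by
    obtain ⟨t, rfl⟩ := (D4.good : Good chevD4).mem_rootSubgroup_iff.1 hy
    exact h ⟨r.val, hn ▸ r.2⟩ hr t

theorem comm_gen {a b : ℕ} (hab : a < b) (hb : b < 6) {r s : Fin 24} (hr : orbD4.orbF 12 r.val = pos a)
    (hs : orbD4.orbF 12 s.val = pos b) (t u : K) : ⁅X r.val t, X s.val u⁆ ∈ V (Xo φ) (a + 1) b := by
  have hD : Good chevD4 := D4.good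
  obtain ⟨h1, h2, h3⟩ := interval_check ⟨a, by omega⟩ ⟨b, hb⟩ hab r s hr hs
  have hr' : r.val < chevD4.nroots := hn.symm ▸ r.2
  have hs' : s.val < chevD4.nroots := hn.symm ▸ s.2
  have e := hD.xg_commutator hr' hs' (Ne.symm h1) h2 (-t) (-u)
  rw [hD.xg_inv, hD.xg_inv, _root_.neg_neg, _root_.neg_neg] at e
  have hmem : wordG chevD4 K (chevD4.commWord K r.val s.val (-t) (-u)) ∈ V (Xo φ) (a + 1) b := by
    refine Subgroup.list_prod_mem _ fun x hx => ?_
    simp only [ChevalleyDatum.commWord, List.map_map, List.mem_map, Function.comp_apply] at hx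
    obtain ⟨y, hy, rfl⟩ := hx
    obtain ⟨c, hc1, hc2, hc⟩ := h3 y hy
    exact le_V (Xo φ) (c := c.val) hc1 hc2 (xg_mem_Xorb φ (hn ▸ hD.commTerms_lt hr' hs' hy) hc _)
  have e' : ⁅X r.val t, X s.val u⁆ = (X s.val u * X r.val t * X s.val (-u) * X r.val (-t))⁻¹ := by
    simp only [commutatorElement_def, mul_inv_rev, hD.xg_inv, _root_.neg_neg, mul_assoc]
  rw [e', e]
  exact Subgroup.inv_mem _ hmem

/-- Commutators of two classes. -/
theorem comm_o : ∀ a b, a < b → b < 6 → ∀ x ∈ Xo φ a, ∀ y ∈ Xo φ b, ⁅x, y⁆ ∈ V (Xo φ) (a + 1) b := by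
  suffices h : ∀ d a b, b - a ≤ d → a < b → b < 6 →
      ∀ x ∈ Xo φ a, ∀ y ∈ Xo φ b, ⁅x, y⁆ ∈ V (Xo φ) (a + 1) b from
    fun a b h1 h2 => h (b - a) a b le_rfl h1 h2
  intro d
  induction d with
  | zero => intro a b h1 h2; omega
  | succ d ih =>
    intro a b hd hab hb
    have nA : ∀ x ∈ Xo φ a, ∀ w ∈ V (Xo φ) (a + 1) b, x * w * x⁻¹ ∈ V (Xo φ) (a + 1) b :=
      fun x hx w hw => (Subgroup.mem_normalizer_iff.1 (Schur.RootLift.le_normalizer (Xo φ)
        (fun c h1 h2 => ih a c (by omega) h1 (by omega)) hx) w).1 hw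
    have nB := Schur.RootLift.conj_last (Xo φ) (a := a + 1) (b := b)
      (fun c h1 h2 => ih c b (by omega) h2 hb)
    set W := V (Xo φ) (a + 1) b
    have left : ∀ y ∈ Xo φ b, (∀ r : Fin 24, orbD4.orbF 12 r.val = pos a → ∀ t : K, ⁅X r.val t, y⁆ ∈ W) →
        ∀ x ∈ Xo φ a, ⁅x, y⁆ ∈ W := by
      intro y hy hgen x hx
      let L : Subgroup (GL chevD4.Idx K) :=
        { carrier := {x | x ∈ Xo φ a ∧ ⁅x, y⁆ ∈ W}
          one_mem' := ⟨(Xo φ a).one_mem, by rw [commutatorElement_one_left]; exact W.one_mem⟩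
          mul_mem' := by
            rintro p q ⟨hp, hp'⟩ ⟨hq, hq'⟩
            refine ⟨(Xo φ a).mul_mem hp hq, ?_⟩
            rw [show ⁅p * q, y⁆ = p * ⁅q, y⁆ * p⁻¹ * ⁅p, y⁆ by
              simp only [commutatorElement_def]; group]
            exact W.mul_mem (nA p hp _ hq') hp'
          inv_mem' := by
            rintro p ⟨hp, hp'⟩
            refine ⟨(Xo φ a).inv_mem hp, ?_⟩
            rw [show ⁅p⁻¹, y⁆ = p⁻¹ * ⁅p, y⁆⁻¹ * p⁻¹⁻¹ by simp only [commutatorElement_def]; group]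
            exact nA _ ((Xo φ a).inv_mem hp) _ (W.inv_mem hp') }
      exact ((show Xo φ a ≤ L from Xorb_le_of φ _ fun r hr t =>
        ⟨xg_mem_Xorb φ r.2 hr t, hgen r hr t⟩) hx).2
    intro x hx y hy
    let L : Subgroup (GL chevD4.Idx K) :=
      { carrier := {y | y ∈ Xo φ b ∧ ∀ x ∈ Xo φ a, ⁅x, y⁆ ∈ W}
        one_mem' := ⟨(Xo φ b).one_mem, fun x _ => by rw [commutatorElement_one_right]; exact W.one_mem⟩
        mul_mem' := by
          rintro p q ⟨hp, hp'⟩ ⟨hq, hq'⟩
          refine ⟨(Xo φ b).mul_mem hp hq, fun x hx => ?_⟩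
          rw [show ⁅x, p * q⁆ = ⁅x, p⁆ * (p * ⁅x, q⁆ * p⁻¹) by simp only [commutatorElement_def]; group]
          exact W.mul_mem (hp' x hx) (nB p hp _ (hq' x hx))
        inv_mem' := by
          rintro p ⟨hp, hp'⟩
          refine ⟨(Xo φ b).inv_mem hp, fun x hx => ?_⟩
          rw [show ⁅x, p⁻¹⁆ = p⁻¹ * ⁅x, p⁆⁻¹ * p⁻¹⁻¹ by simp only [commutatorElement_def]; group]
          exact nB _ ((Xo φ b).inv_mem hp) _ (W.inv_mem (hp' x hx)) }
    exact ((show Xo φ b ≤ L from Xorb_le_of φ _ fun s hs u =>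
      ⟨xg_mem_Xorb φ s.2 hs u, left _ (xg_mem_Xorb φ s.2 hs u)
        fun r hr t => comm_gen φ hab hb hr hs t u⟩) hy).2 x hx

theorem longest : (tw3D4 φ).Longest (0 :: orbD4.covF 2 0) := by
  have hS := orbD4_ok.2.2.1 0
  refine ⟨(BNSetup.reduced_iff D4.good orbD4_ok φ _).2 hS.2.2.2.2.2.2.2.2.2.1, fun r hr => not_le.2 ?_⟩
  rw [show tw3D4 φ = BNSetup.twist D4.good orbD4_ok φ from rfl,
    BNSetup.wl_val D4.good facts_chevD4, BNSetup.flat_val D4.good orbD4_ok φ]
  exact hS.2.2.2.2.2.2.2.2.2.2 r.val r.2 hr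

theorem roots_eq : (tw3D4 φ).roots (0 :: orbD4.covF 2 0) = (List.range 6).map pos := by
  rw [show (tw3D4 φ).roots (0 :: orbD4.covF 2 0) = orbD4.rootsF 12 2 (0 :: orbD4.covF 2 0) from
    BNSetup.roots_eq D4.good orbD4_ok φ _, rootsF_facts.1, ← posList_eq_map]
  rfl

/-- An element of an interval is an ordered product. -/
theorem exists_fun : ∀ d a b, b - a = d → b ≤ 6 → ∀ u ∈ V (Xo φ) a b, ∃ f : ℕ → GL chevD4.Idx K,
    (∀ c, f c ∈ Xo φ c) ∧ (∀ c, c < a ∨ b ≤ c → f c = 1) ∧ u = ((List.range' a d).map f).prod := by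
  intro d
  induction d with
  | zero =>
    intro a b hd _ u hu
    rw [V_empty _ (by omega), Subgroup.mem_bot] at hu
    exact ⟨fun _ => 1, fun c => Subgroup.one_mem _, fun _ _ => rfl, by simp [hu]⟩
  | succ d ih =>
    intro a b hd hb u hu
    obtain ⟨x, hx, w, hw, rfl⟩ := Schur.RootLift.ordered (Xo φ) (show a < b by omega)
      (fun c h1 h2 => comm_o φ a c h1 (by omega)) hu
    obtain ⟨f, hf, hf1, rfl⟩ := ih (a + 1) b (by omega) hb w hw
    refine ⟨Function.update f a x, fun c => ?_, fun c hc => ?_, ?_⟩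
    · rcases eq_or_ne c a with rfl | h
      · rwa [Function.update_self]
      · rw [Function.update_of_ne h]; exact hf c
    · rw [Function.update_of_ne (by omega)]; exact hf1 c (by omega)
    · rw [List.range'_succ, List.map_cons, List.prod_cons, Function.update_self]
      congr 2
      refine List.map_congr_left fun c hc => ?_
      rw [Function.update_of_ne]
      have := List.mem_range'_1.1 hc
      omega

theorem disjoint_o {a b : ℕ} (hab : a < b) (hb : b ≤ 6) : Xo φ a ⊓ V (Xo φ) (a + 1) b = ⊥ := by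
  rw [eq_bot_iff]
  rintro u ⟨h1, h2⟩
  obtain ⟨f, hf, hf1, e⟩ := exists_fun φ _ (a + 1) b rfl hb u h2
  have hsplit : List.range 6 = List.range' 0 (a + 1) ++ (List.range' (a + 1) (b - (a + 1)) ++
      List.range' b (6 - b)) := by
    rw [List.range_eq_range']
    have e0 := List.range'_append_1 (s := a + 1) (m := b - (a + 1)) (n := 6 - b)
    rw [show a + 1 + (b - (a + 1)) = b by omega] at e0
    have e1 := List.range'_append_1 (s := 0) (m := a + 1) (n := b - (a + 1) + (6 - b))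
    rw [show 0 + (a + 1) = a + 1 by omega, show a + 1 + (b - (a + 1) + (6 - b)) = 6 by omega] at e1
    rw [e0, e1]
  have hone : ∀ (g : ℕ → GL chevD4.Idx K) (L : List ℕ), (∀ c ∈ L, g c = 1) → (L.map g).prod = 1 :=
    fun g L h => List.prod_eq_one fun y hy => by
      obtain ⟨c, hc, rfl⟩ := List.mem_map.1 hy
      exact h c hc
  let g : ℕ → GL chevD4.Idx K := fun c => if c = a then u else 1
  have hg : ∀ c, g c ∈ Xo φ c := fun c => by
    by_cases h : c = a
    · simp only [g, h, if_true]; exact h1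
    · simp only [g, h, if_false]; exact Subgroup.one_mem _
  have e1 : ((List.range 6).map f).prod = u := by
    rw [hsplit, List.map_append, List.map_append, List.prod_append, List.prod_append, ← e,
      hone f _ fun c hc => hf1 c (by have := List.mem_range'_1.1 hc; omega),
      hone f (List.range' b _) fun c hc => hf1 c (by have := List.mem_range'_1.1 hc; omega)]
    simp
  have e2 : ((List.range 6).map g).prod = u := by
    rw [hsplit, List.range'_1_concat, List.map_append, List.map_append, List.map_append,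
      List.prod_append, List.prod_append, List.prod_append,
      hone g _ fun c hc => if_neg (by have := List.mem_range'_1.1 hc; omega),
      hone g (List.range' (a + 1) _) fun c hc => if_neg (by have := List.mem_range'_1.1 hc; omega),
      hone g (List.range' b _) fun c hc => if_neg (by have := List.mem_range'_1.1 hc; omega)]
    simp [g]
  have hforall : ∀ h : ℕ → GL chevD4.Idx K, (∀ c, h c ∈ Xo φ c) →
      List.Forall₂ (fun o y => y ∈ (tw3D4 φ).Xorb o) ((tw3D4 φ).roots (0 :: orbD4.covF 2 0))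
        ((List.range 6).map h) := by
    intro h hh
    rw [roots_eq, List.forall₂_map_left_iff, List.forall₂_map_right_iff, List.forall₂_same]
    exact fun c _ => hh c
  have := RootBN.Twist.factor_unique (hT φ) (longest φ).1 (hforall f hf) (hforall g hg)
    (e1.trans e2.symm)
  have h3 := (List.map_inj_left.1 this) a (List.mem_range.2 (by omega))
  simp only [g, if_true] at h3
  rw [hf1 a (by omega)] at h3
  exact Subgroup.mem_bot.2 h3.symm

theorem Xp_le (i : ℕ) : Xp φ i ≤ Xo φ i := inf_le_left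

theorem V_le {a b : ℕ} : V (Xp φ) a b ≤ V (Xo φ) a b := iSup₂_mono fun c _ => Xp_le φ c

theorem disjoint_p {a b : ℕ} (hab : a < b) (hb : b ≤ 6) : Xp φ a ⊓ V (Xp φ) (a + 1) b = ⊥ :=
  eq_bot_iff.2 ((inf_le_inf (Xp_le φ a) (V_le φ)).trans (disjoint_o φ hab hb).le)

theorem theta_V {a b : ℕ} {u : GL chevD4.Idx K} (hu : u ∈ V (Xo φ) a b) :
    (tw3D4 φ).σ u ∈ V (Xo φ) a b :=
  (show V (Xo φ) a b ≤ (V (Xo φ) a b).comap (tw3D4 φ).σ.toMonoidHom from iSup₂_le fun _ hc _ hz =>
    le_V (Xo φ) hc.1 hc.2 (RootBN.Twist.σ_Xorb (hT φ) hz)) hu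

theorem fix_mem : ∀ d a b, b - a = d → b ≤ 6 → ∀ u ∈ V (Xo φ) a b, (tw3D4 φ).σ u = u →
    u ∈ V (Xp φ) a b := by
  intro d
  induction d with
  | zero =>
    intro a b hd _ u hu _
    rw [V_empty _ (by omega), Subgroup.mem_bot] at hu
    exact hu ▸ Subgroup.one_mem _
  | succ d ih =>
    intro a b hd hb u hu hfix
    obtain ⟨x, hx, w, hw, rfl⟩ := Schur.RootLift.ordered (Xo φ) (show a < b by omega)
      (fun c h1 h2 => comm_o φ a c h1 (by omega)) hu
    rw [map_mul] at hfix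
    have h1 : x⁻¹ * (tw3D4 φ).σ x ∈ Xo φ a ⊓ V (Xo φ) (a + 1) b := by
      refine ⟨(Xo φ a).mul_mem ((Xo φ a).inv_mem hx) (RootBN.Twist.σ_Xorb (hT φ) hx), ?_⟩
      rw [show x⁻¹ * (tw3D4 φ).σ x = w * ((tw3D4 φ).σ w)⁻¹ by
        rw [eq_mul_inv_iff_mul_eq, mul_assoc, hfix, inv_mul_cancel_left]]
      exact Subgroup.mul_mem _ hw (Subgroup.inv_mem _ (theta_V φ hw))
    rw [disjoint_o φ (by omega) hb, Subgroup.mem_bot, inv_mul_eq_one] at h1
    rw [← h1, mul_right_inj] at hfix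
    refine Subgroup.mul_mem _ (le_V (Xp φ) le_rfl (by omega) ⟨hx, RootBN.Twist.mem_Fix.2 h1.symm⟩) ?_
    exact V_mono (Xp φ) (by omega) le_rfl (ih (a + 1) b (by omega) hb w hw hfix)

/-- Commutators of two fixed classes. -/
theorem comm_p : ∀ a b, a < b → b < 6 → ∀ x ∈ Xp φ a, ∀ y ∈ Xp φ b, ⁅x, y⁆ ∈ V (Xp φ) (a + 1) b :=
  fun a b hab hb x hx y hy => fix_mem φ _ _ _ rfl hb.le _
    (comm_o φ a b hab hb x hx.1 y hy.1)
    (by rw [map_commutatorElement, RootBN.Twist.mem_Fix.1 hx.2, RootBN.Twist.mem_Fix.1 hy.2])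

theorem V_eq_U : V (Xp φ) 0 6 = (tw3D4 φ).data.U := by
  refine le_antisymm (iSup₂_le fun c hc =>
    Data.X_le_U (D := (tw3D4 φ).data) ((D4Invol.pos_iff φ _).2 (pos_mem ⟨c, hc.2⟩))) ?_
  refine iSup₂_le fun o ho => ?_
  obtain ⟨c, hc, rfl⟩ := List.mem_map.1 (posList_eq_map ▸ pos_cover o ((D4Invol.pos_iff φ o).1 ho))
  exact le_V (Xp φ) (Nat.zero_le c) (List.mem_range.1 hc)

theorem Xp_le_Gt (i : ℕ) : Xp φ i ≤ (tw3D4 φ).Gt := RootBN.Twist.X'_le_Gt _

end Cfsg.Agent.D4Stem
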