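/-
³D₄(q): the elements of the classes, the torus elements of given parameters and their action.
-/
import Cfsg.Agent.Lib.Chev.D4Stem.Intervals
import Cfsg.Agent.Lib.Chev.TwistTorusD4
import Cfsg.Agent.Lib.Chev.AutOut

set_option autoImplicit false

namespace Cfsg.Agent.D4Stem

open Cfsg.Lie Cfsg.Agent.Chev Cfsg.Agent.Chev.Invol
open Cfsg.Agent.RootBN (Data)
open Cfsg.Agent.Chev.BNSetup (tw3D4 orbD4 orbD4_ok facts_chevD4 negTri_chevD4 graphD4_cols torusHom
  torusChar xg_eq_xe)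
open Cfsg.Agent.D4Invol (hn hT hax)
open scoped commutatorElement

/-- The roots of a place. -/
def rootsAt (i : ℕ) : List ℕ :=
  [[18, 13, 12], [22], [17, 20, 21], [23], [19, 16, 15], [14]].getD i []

theorem rootsAt_check : ∀ i : Fin 6, (∀ r : Fin 24, orbD4.orbF 12 r.val = pos i.val → r.val ∈ rootsAt i.val) ∧
    (∀ r ∈ rootsAt i.val, r < 24 ∧ 12 ≤ r ∧ orbD4.orbF 12 r = pos i.val) ∧ (rootsAt i.val).Nodup ∧
    ∀ r ∈ rootsAt i.val, ∀ s ∈ rootsAt i.val, chevD4.commTerms r s = [] ∧ D4.cert.comm r s = [] ∧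
      s ≠ chevD4.neg r := by decide +kernel

theorem cartan_table : ∀ i : Fin 4, ∀ r : Fin 12, chevD4.cartan i.val (r.val + 12) =
    ([[0, -1, 0, 2], [0, -1, 2, 0], [-1, 2, -1, -1], [-1, 1, -1, 1], [-1, 1, 1, -1], [-1, 0, 1, 1],
      [2, -1, 0, 0], [1, 1, -1, -1], [1, 0, -1, 1], [1, 0, 1, -1], [1, -1, 1, 1], [0, 1, 0, 0]] :
      List (List ℤ))[r.val]!.getD i.val 0 := by decide +kernel

variable {K : Type*} [Field K]

/-- The root element. -/
local notation "X" => xg chevD4 K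

theorem xg_commute {r s : ℕ} (hr : r < 24) (hs : s < 24) (h : chevD4.commTerms r s = [])
    (h2 : s ≠ chevD4.neg r) (t u : K) : Commute (X r t) (X s u) := by
  rcases eq_or_ne s r with rfl | h1
  · exact show _ = _ by rw [(D4.good : Good chevD4).xg_add, (D4.good : Good chevD4).xg_add, add_comm]
  have e := (D4.good : Good chevD4).xg_comm (hn.symm ▸ hr) (hn.symm ▸ hs) h1 h2 t u
  rw [ChevalleyDatum.commWord, h, List.map_nil, wordG, List.map_nil, List.prod_nil, mul_one] at e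
  exact e.symm

theorem xg_eq_one {r : ℕ} (hr : r < 24) (hr' : 12 ≤ r) {t : K} (h : X r t = 1) : t = 0 :=
  eq_zero_of_mem_gen D4.valid facts_chevD4 (S := []) (by simp) (by simp) (hn.symm ▸ hr)
    (by rw [hn]; omega) (by simp) (by rw [h]; exact Subgroup.one_mem _)

theorem xg_inj {r : ℕ} (hr : r < 24) (hr' : 12 ≤ r) {t u : K} (h : X r t = X r u) : t = u := by
  have h1 : X r (t - u) = 1 := by
    rw [sub_eq_add_neg, ← (D4.good : Good chevD4).xg_add, ← (D4.good : Good chevD4).xg_inv, h,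
      mul_inv_cancel]
  exact sub_eq_zero.1 (xg_eq_one hr hr' h1)

/-- A product along a class. -/
noncomputable def pr (L : List ℕ) (t : ℕ → K) : GL chevD4.Idx K := (L.map fun r => X r (t r)).prod

@[simp] theorem pr_nil (t : ℕ → K) : pr [] t = 1 := rfl

@[simp] theorem pr_cons (r : ℕ) (L : List ℕ) (t : ℕ → K) : pr (r :: L) t = X r (t r) * pr L t := by
  simp [pr]

theorem commute_pr {L : List ℕ} {g : GL chevD4.Idx K} {t : ℕ → K} (h : ∀ r ∈ L, Commute g (X r (t r))) :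
    Commute g (pr L t) :=
  Commute.list_prod_right _ _ fun y hy => by obtain ⟨r, hr, rfl⟩ := List.mem_map.1 hy; exact h r hr

theorem pr_mul : ∀ (L : List ℕ), (∀ r ∈ L, r < 24) →
    (∀ r ∈ L, ∀ s ∈ L, chevD4.commTerms r s = [] ∧ s ≠ chevD4.neg r) →
    ∀ t u : ℕ → K, pr L t * pr L u = pr L (t + u)
  | [], _, _, t, u => by simp
  | r :: L, hlt, hc, t, u => by
    rw [pr_cons, pr_cons, pr_cons,
      ← pr_mul L (fun s hs => hlt s (by simp [hs])) (fun a ha b hb => hc a (by simp [ha]) b (by simp [hb])) t u,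
      Pi.add_apply, ← (D4.good : Good chevD4).xg_add]
    have h : Commute (X r (u r)) (pr L t) := commute_pr fun s hs =>
      xg_commute (hlt r (by simp)) (hlt s (by simp [hs])) (hc r (by simp) s (by simp [hs])).1
        (hc r (by simp) s (by simp [hs])).2 _ _
    calc X r (t r) * pr L t * (X r (u r) * pr L u) = X r (t r) * (pr L t * X r (u r)) * pr L u := by
          simp only [mul_assoc]
      _ = _ := by rw [← h.eq]; simp only [mul_assoc]

theorem pr_congr {L : List ℕ} {t u : ℕ → K} (h : ∀ r ∈ L, t r = u r) : pr L t = pr L u :=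
  congrArg List.prod (List.map_congr_left fun r hr => by rw [h r hr])

theorem pr_zero (L : List ℕ) : pr L (0 : ℕ → K) = 1 :=
  List.prod_eq_one fun y hy => by
    obtain ⟨r, -, rfl⟩ := List.mem_map.1 hy
    exact (D4.good : Good chevD4).xg_zero r

theorem pr_inj : ∀ (L : List ℕ), (∀ r ∈ L, r < 24 ∧ 12 ≤ r) → L.Nodup →
    (∀ r ∈ L, ∀ s ∈ L, D4.cert.comm r s = []) → ∀ t u : ℕ → K, pr L t = pr L u → ∀ r ∈ L, t r = u r
  | [], _, _, _, _, _, _ => by simp
  | r :: L, hlt, hnd, hc, t, u, e => by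
    rw [pr_cons, pr_cons] at e
    have hmem : ∀ v : ℕ → K, pr L v ∈ gen chevD4 K L := fun v => Subgroup.list_prod_mem _ fun y hy => by
      obtain ⟨s, hs, rfl⟩ := List.mem_map.1 hy; exact xg_mem_gen hs _
    have h1 : t r = u r := by
      refine sub_eq_zero.1 (eq_zero_of_mem_gen D4.valid facts_chevD4 (S := L)
        (fun s hs => ?_) (fun a ha b hb => by rw [hc a (by simp [ha]) b (by simp [hb])]; simp)
        (r := r) ?_ ?_ (List.nodup_cons.1 hnd).1 ?_)
      · obtain ⟨h1, h2⟩ := hlt s (by simp [hs]); rw [hn]; exact ⟨h1, by omega⟩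
      · rw [hn]; exact (hlt r (by simp)).1
      · have := (hlt r (by simp)).2; rw [hn]; omega
      · rw [show X r (t r - u r) = pr L u * (pr L t)⁻¹ by
          rw [eq_mul_inv_iff_mul_eq, sub_eq_add_neg, add_comm, ← (D4.good : Good chevD4).xg_add, mul_assoc, e,
            ← mul_assoc, (D4.good : Good chevD4).xg_add, neg_add_cancel, (D4.good : Good chevD4).xg_zero,
            one_mul]]
        exact Subgroup.mul_mem _ (hmem u) (Subgroup.inv_mem _ (hmem t))
    rw [h1, mul_right_inj] at e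
    intro s hs
    rcases List.mem_cons.1 hs with rfl | hs'
    · exact h1
    · exact pr_inj L (fun s hs => hlt s (by simp [hs])) (List.nodup_cons.1 hnd).2
        (fun a ha b hb => hc a (by simp [ha]) b (by simp [hb])) t u e s hs'

variable (φ : K ≃+* K)

theorem exists_pr (i : Fin 6) {y : GL chevD4.Idx K} (hy : y ∈ Xo φ i.val) : ∃ t, y = pr (rootsAt i.val) t := by
  obtain ⟨h1, h2, h3, h4⟩ := rootsAt_check i
  have hlt : ∀ r ∈ rootsAt i.val, r < 24 := fun r hr => (h2 r hr).1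
  have hc : ∀ r ∈ rootsAt i.val, ∀ s ∈ rootsAt i.val, chevD4.commTerms r s = [] ∧ s ≠ chevD4.neg r :=
    fun r hr s hs => ⟨(h4 r hr s hs).1, (h4 r hr s hs).2.2⟩
  let L : Subgroup (GL chevD4.Idx K) :=
    { carrier := {y | ∃ t, y = pr (rootsAt i.val) t}
      one_mem' := ⟨0, (pr_zero _).symm⟩
      mul_mem' := by rintro _ _ ⟨t, rfl⟩ ⟨u, rfl⟩; exact ⟨t + u, pr_mul _ hlt hc t u⟩
      inv_mem' := by
        rintro _ ⟨t, rfl⟩
        refine ⟨-t, inv_eq_of_mul_eq_one_right ?_⟩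
        rw [pr_mul _ hlt hc, add_neg_cancel, pr_zero] }
  refine (show Xo φ i.val ≤ L from Xorb_le_of φ _ fun r hr t => ?_) hy
  classical
  refine ⟨fun s => if s = r.val then t else 0, ?_⟩
  have key : ∀ M : List ℕ, M.Nodup → pr M (fun s => if s = r.val then t else 0) =
      if r.val ∈ M then X r.val t else 1 := by
    intro M hM
    induction M with
    | nil => simp
    | cons s M ih =>
      obtain ⟨hs, hM'⟩ := List.nodup_cons.1 hM
      rw [pr_cons, ih hM']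
      by_cases e : s = r.val
      · subst e; simp [hs]
      · simp [e, Ne.symm e, (D4.good : Good chevD4).xg_zero]
  rw [key _ h3, if_pos (h1 r hr)]

theorem pr_mem_Xo (i : Fin 6) (t : ℕ → K) : pr (rootsAt i.val) t ∈ Xo φ i.val :=
  Subgroup.list_prod_mem _ fun y hy => by
    obtain ⟨r, hr, rfl⟩ := List.mem_map.1 hy
    obtain ⟨h1, -, h3⟩ := (rootsAt_check i).2.1 r hr
    exact xg_mem_Xorb φ h1 h3 _

theorem commute_Xo (i : Fin 6) {x y : GL chevD4.Idx K} (hx : x ∈ Xo φ i.val) (hy : y ∈ Xo φ i.val) :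
    Commute x y := by
  obtain ⟨t, rfl⟩ := exists_pr φ i hx
  obtain ⟨u, rfl⟩ := exists_pr φ i hy
  obtain ⟨-, h2, -, h4⟩ := rootsAt_check i
  have hlt : ∀ r ∈ rootsAt i.val, r < 24 := fun r hr => (h2 r hr).1
  have hc : ∀ r ∈ rootsAt i.val, ∀ s ∈ rootsAt i.val, chevD4.commTerms r s = [] ∧ s ≠ chevD4.neg r :=
    fun r hr s hs => ⟨(h4 r hr s hs).1, (h4 r hr s hs).2.2⟩
  show _ = _
  rw [pr_mul _ hlt hc, pr_mul _ hlt hc, add_comm]

/-! ### The torus -/

theorem conj_xg (c : Fin chevD4.rank → Kˣ) {r : ℕ} (hr : r < 24) (t : K) :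
    torusHom K chevD4 c * X r t * (torusHom K chevD4 c)⁻¹ = X r ((torusChar chevD4 c r : K) * t) := by
  rw [xg_eq_xe D4.good, xg_eq_xe D4.good]
  exact BNSetup.torusHom_conj D4.good c r (hn.symm ▸ hr) t

theorem conj_pr (c : Fin chevD4.rank → Kˣ) {L : List ℕ} (hL : ∀ r ∈ L, r < 24) (t : ℕ → K) :
    torusHom K chevD4 c * pr L t * (torusHom K chevD4 c)⁻¹ =
      pr L (fun r => (torusChar chevD4 c r : K) * t r) := by
  rw [← MulAut.conj_apply, pr, map_list_prod, List.map_map]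
  exact congrArg List.prod (List.map_congr_left fun r hr => by
    simp only [Function.comp_apply, MulAut.conj_apply, conj_xg c (hL r hr)])

/-- A torus element with trivial characters on a class fixes it. -/
theorem fix_of_chars {c : Fin chevD4.rank → Kˣ} (i : Fin 6)
    (h : ∀ r ∈ rootsAt i.val, torusChar chevD4 c r = 1) {y : GL chevD4.Idx K} (hy : y ∈ Xp φ i.val) :
    torusHom K chevD4 c * y * (torusHom K chevD4 c)⁻¹ = y := by
  obtain ⟨t, rfl⟩ := exists_pr φ i hy.1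
  rw [conj_pr c (fun r hr => ((rootsAt_check i).2.1 r hr).1)]
  exact pr_congr fun r hr => by rw [h r hr, Units.val_one, one_mul]

theorem fpf_of_chars {c : Fin chevD4.rank → Kˣ} (i : Fin 6)
    (h : ∀ r ∈ rootsAt i.val, torusChar chevD4 c r ≠ 1) {y : GL chevD4.Idx K} (hy : y ∈ Xp φ i.val)
    (he : torusHom K chevD4 c * y * (torusHom K chevD4 c)⁻¹ = y) : y = 1 := by
  obtain ⟨t, rfl⟩ := exists_pr φ i hy.1
  obtain ⟨-, h2, h3, h4⟩ := rootsAt_check i
  rw [conj_pr c (fun r hr => (h2 r hr).1)] at he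
  rw [← pr_zero (K := K) (rootsAt i.val)]
  refine pr_congr fun r hr => ?_
  have := pr_inj _ (fun r hr => ⟨(h2 r hr).1, (h2 r hr).2.1⟩) h3 (fun a ha b hb => (h4 a ha b hb).2.1) _ _ he r hr
  exact (mul_left_eq_self₀.1 this).resolve_left fun e => h r hr (Units.ext e)

variable [Finite K]

theorem sur_of_chars {c : Fin chevD4.rank → Kˣ} (hc : torusHom K chevD4 c ∈ (tw3D4 φ).data.H) (i : Fin 6)
    (h : ∀ r ∈ rootsAt i.val, torusChar chevD4 c r ≠ 1) {y : GL chevD4.Idx K} (hy : y ∈ Xp φ i.val) :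
    ∃ y' ∈ Xp φ i.val, y = ⁅torusHom K chevD4 c, y'⁆ := by
  set g := torusHom K chevD4 c with hg
  have hconj : ∀ z ∈ Xp φ i.val, g * z * g⁻¹ ∈ Xp φ i.val := (hax φ).H_conj (pos i.val) g hc
  let f : Xp φ i.val → Xp φ i.val := fun z => ⟨⁅g, (z : GL chevD4.Idx K)⁆, by
    rw [commutatorElement_def]; exact Subgroup.mul_mem _ (hconj _ z.2) (Subgroup.inv_mem _ z.2)⟩
  have hf : Function.Injective f := by
    intro z z' e
    have e1 : g * (z : GL chevD4.Idx K) * g⁻¹ * (z : GL chevD4.Idx K)⁻¹ =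
        g * (z' : GL chevD4.Idx K) * g⁻¹ * (z' : GL chevD4.Idx K)⁻¹ := congrArg Subtype.val e
    have hw : (z : GL chevD4.Idx K) * (z' : GL chevD4.Idx K)⁻¹ ∈ Xp φ i.val :=
      Subgroup.mul_mem _ z.2 (Subgroup.inv_mem _ z'.2)
    refine Subtype.ext (mul_inv_eq_one.1 (fpf_of_chars φ i h hw ?_))
    have hcomm : Commute (g * (z : GL chevD4.Idx K) * g⁻¹) ((g * (z' : GL chevD4.Idx K) * g⁻¹)⁻¹) :=
      (commute_Xo φ i (hconj _ z.2).1 (hconj _ z'.2).1).inv_right
    calc g * ((z : GL chevD4.Idx K) * (z' : GL chevD4.Idx K)⁻¹) * g⁻¹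
        = g * (z : GL chevD4.Idx K) * g⁻¹ * (g * (z' : GL chevD4.Idx K) * g⁻¹)⁻¹ := by group
      _ = (g * (z' : GL chevD4.Idx K) * g⁻¹)⁻¹ * (g * (z : GL chevD4.Idx K) * g⁻¹ *
            (z : GL chevD4.Idx K)⁻¹) * (z : GL chevD4.Idx K) := by rw [hcomm.eq]; group
      _ = (z' : GL chevD4.Idx K)⁻¹ * (z : GL chevD4.Idx K) := by rw [e1]; group
      _ = (z : GL chevD4.Idx K) * (z' : GL chevD4.Idx K)⁻¹ := ((commute_Xo φ i z.2.1 z'.2.1).inv_right.eq).symm
  obtain ⟨⟨y', hy'⟩, e⟩ := Finite.injective_iff_surjective.1 hf ⟨y, hy⟩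
  exact ⟨y', hy', (congrArg Subtype.val e).symm⟩

omit [Finite K]

/-! ### Torus elements with given parameters -/

variable (hcube : ∀ x, φ (φ (φ x)) = x)

/-- The parameters of the element of the fixed torus. -/
def cD (a s : Kˣ) : Fin chevD4.rank → Kˣ :=
  (![a, s, Units.map (φ : K →* K) a, Units.map (φ : K →* K) (Units.map (φ : K →* K) a)] : Fin 4 → Kˣ)

include hcube in
theorem cD_mem_H {a s : Kˣ} (hs : φ s = (s : K)) : torusHom K chevD4 (cD φ a s) ∈ (tw3D4 φ).data.H := by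
  refine ⟨?_, ?_⟩
  · show _ ∈ chevD4.diagonalSubgroup K
    rw [BNSetup.diagonal_eq_range D4.good]
    exact ⟨_, rfl⟩
  · refine BNSetup.map_fixedTorus_le D4.good orbD4_ok φ facts_chevD4 graphD4_cols negTri_chevD4
      (by decide +kernel) ⟨_, ((BNSetup.fixedTorusD4Equiv φ hcube).symm (⟨s, Units.ext hs⟩, a)).2, rfl⟩

theorem char_cD (a s : Kˣ) (r : ℕ) : (torusChar chevD4 (cD φ a s) r : K) =
    (a : K) ^ chevD4.cartan 0 r * (s : K) ^ chevD4.cartan 1 r * φ a ^ chevD4.cartan 2 r *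
      φ (φ a) ^ chevD4.cartan 3 r := by
  show ((∏ i : Fin 4, (cD φ a s) i ^ chevD4.cartan i.val r : Kˣ) : K) = _
  rw [Fin.prod_univ_four]
  simp [cD, Units.val_zpow_eq_zpow_val]

theorem chars_short (a s : Kˣ) :
    ((torusChar chevD4 (cD φ a s) 18 : K) = a ^ 2 / s ∧
      (torusChar chevD4 (cD φ a s) 13 : K) = φ a ^ 2 / s ∧
      (torusChar chevD4 (cD φ a s) 12 : K) = φ (φ a) ^ 2 / s) ∧
    ((torusChar chevD4 (cD φ a s) 19 : K) = a * s / (φ a * φ (φ a)) ∧
      (torusChar chevD4 (cD φ a s) 16 : K) = φ a * s / (a * φ (φ a)) ∧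
      (torusChar chevD4 (cD φ a s) 15 : K) = φ (φ a) * s / (a * φ a)) ∧
    ((torusChar chevD4 (cD φ a s) 17 : K) = φ a * φ (φ a) / a ∧
      (torusChar chevD4 (cD φ a s) 20 : K) = a * φ (φ a) / φ a ∧
      (torusChar chevD4 (cD φ a s) 21 : K) = a * φ a / φ (φ a)) := by
  have h : ∀ (i : Fin 4) (r : Fin 12) (k : ℕ), k = r.val + 12 → chevD4.cartan i.val k = _ :=
    fun i r k e => e ▸ cartan_table i r
  have ha : (a : K) ≠ 0 := a.ne_zero
  have hs : (s : K) ≠ 0 := s.ne_zero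
  have h1 : φ (a : K) ≠ 0 := (map_ne_zero φ).2 ha
  have h2 : φ (φ (a : K)) ≠ 0 := (map_ne_zero φ).2 h1
  refine ⟨⟨?_, ?_, ?_⟩, ⟨?_, ?_, ?_⟩, ?_, ?_, ?_⟩ <;> rw [char_cD]
  · rw [show chevD4.cartan 0 18 = 2 from h 0 6 18 rfl, show chevD4.cartan 1 18 = -1 from h 1 6 18 rfl,
      show chevD4.cartan 2 18 = 0 from h 2 6 18 rfl, show chevD4.cartan 3 18 = 0 from h 3 6 18 rfl]
    simp [div_eq_mul_inv, sq]
  · rw [show chevD4.cartan 0 13 = 0 from h 0 1 13 rfl, show chevD4.cartan 1 13 = -1 from h 1 1 13 rfl,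
      show chevD4.cartan 2 13 = 2 from h 2 1 13 rfl, show chevD4.cartan 3 13 = 0 from h 3 1 13 rfl]
    simp [div_eq_mul_inv, sq, mul_comm]
  · rw [show chevD4.cartan 0 12 = 0 from h 0 0 12 rfl, show chevD4.cartan 1 12 = -1 from h 1 0 12 rfl,
      show chevD4.cartan 2 12 = 0 from h 2 0 12 rfl, show chevD4.cartan 3 12 = 2 from h 3 0 12 rfl]
    simp [div_eq_mul_inv, sq, mul_comm]
  · rw [show chevD4.cartan 0 19 = 1 from h 0 7 19 rfl, show chevD4.cartan 1 19 = 1 from h 1 7 19 rfl,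
      show chevD4.cartan 2 19 = -1 from h 2 7 19 rfl, show chevD4.cartan 3 19 = -1 from h 3 7 19 rfl]
    simp only [zpow_one, zpow_neg]; field_simp
  · rw [show chevD4.cartan 0 16 = -1 from h 0 4 16 rfl, show chevD4.cartan 1 16 = 1 from h 1 4 16 rfl,
      show chevD4.cartan 2 16 = 1 from h 2 4 16 rfl, show chevD4.cartan 3 16 = -1 from h 3 4 16 rfl]
    simp only [zpow_one, zpow_neg]; field_simp
  · rw [show chevD4.cartan 0 15 = -1 from h 0 3 15 rfl, show chevD4.cartan 1 15 = 1 from h 1 3 15 rfl,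
      show chevD4.cartan 2 15 = -1 from h 2 3 15 rfl, show chevD4.cartan 3 15 = 1 from h 3 3 15 rfl]
    simp only [zpow_one, zpow_neg]; field_simp
  · rw [show chevD4.cartan 0 17 = -1 from h 0 5 17 rfl, show chevD4.cartan 1 17 = 0 from h 1 5 17 rfl,
      show chevD4.cartan 2 17 = 1 from h 2 5 17 rfl, show chevD4.cartan 3 17 = 1 from h 3 5 17 rfl]
    simp only [zpow_one, zpow_neg, zpow_zero]; field_simp
  · rw [show chevD4.cartan 0 20 = 1 from h 0 8 20 rfl, show chevD4.cartan 1 20 = 0 from h 1 8 20 rfl,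
      show chevD4.cartan 2 20 = -1 from h 2 8 20 rfl, show chevD4.cartan 3 20 = 1 from h 3 8 20 rfl]
    simp only [zpow_one, zpow_neg, zpow_zero]; field_simp
  · rw [show chevD4.cartan 0 21 = 1 from h 0 9 21 rfl, show chevD4.cartan 1 21 = 0 from h 1 9 21 rfl,
      show chevD4.cartan 2 21 = 1 from h 2 9 21 rfl, show chevD4.cartan 3 21 = -1 from h 3 9 21 rfl]
    simp only [zpow_one, zpow_neg, zpow_zero]; field_simp

theorem chars_long (a s : Kˣ) :
    (torusChar chevD4 (cD φ a s) 14 : K) = s ^ 2 / (a * φ a * φ (φ a)) ∧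
    (torusChar chevD4 (cD φ a s) 22 : K) = a * φ a * φ (φ a) / s ∧
    (torusChar chevD4 (cD φ a s) 23 : K) = s := by
  have h : ∀ (i : Fin 4) (r : Fin 12) (k : ℕ), k = r.val + 12 → chevD4.cartan i.val k = _ :=
    fun i r k e => e ▸ cartan_table i r
  have ha : (a : K) ≠ 0 := a.ne_zero
  have hs : (s : K) ≠ 0 := s.ne_zero
  have h1 : φ (a : K) ≠ 0 := (map_ne_zero φ).2 ha
  have h2 : φ (φ (a : K)) ≠ 0 := (map_ne_zero φ).2 h1
  refine ⟨?_, ?_, ?_⟩ <;> rw [char_cD]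
  · rw [show chevD4.cartan 0 14 = -1 from h 0 2 14 rfl, show chevD4.cartan 1 14 = 2 from h 1 2 14 rfl,
      show chevD4.cartan 2 14 = -1 from h 2 2 14 rfl, show chevD4.cartan 3 14 = -1 from h 3 2 14 rfl]
    simp only [zpow_two, zpow_neg, zpow_one]; field_simp
  · rw [show chevD4.cartan 0 22 = 1 from h 0 10 22 rfl, show chevD4.cartan 1 22 = -1 from h 1 10 22 rfl,
      show chevD4.cartan 2 22 = 1 from h 2 10 22 rfl, show chevD4.cartan 3 22 = 1 from h 3 10 22 rfl]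
    simp only [zpow_one, zpow_neg]; field_simp
  · rw [show chevD4.cartan 0 23 = 0 from h 0 11 23 rfl, show chevD4.cartan 1 23 = 1 from h 1 11 23 rfl,
      show chevD4.cartan 2 23 = 0 from h 2 11 23 rfl, show chevD4.cartan 3 23 = 0 from h 3 11 23 rfl]
    simp

end Cfsg.Agent.D4Stem
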