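/-
³D₄(q): preimages of commuting classes commute in central extensions.
-/
import Cfsg.Agent.Lib.Chev.D4Stem.Chars
import Cfsg.Agent.S2117

set_option autoImplicit false

namespace Cfsg.Agent.D4Stem

open Cfsg.Lie Cfsg.Agent.Chev
open Cfsg.Agent.RootBN (Data)
open Cfsg.Agent.Chev.BNSetup (tw3D4 orbD4 orbD4_ok facts_chevD4 negTri_chevD4 graphD4_cols torusHom torusChar)
open Cfsg.Agent.D4Invol (hn hT hax eA eA_mem exists_eA)
open Cfsg.Agent.Schur.ChainLift
open scoped commutatorElement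

variable {K : Type*} [Field K]

/-- The root element. -/
local notation "X" => xg chevD4 K

/-- The standing hypotheses on the field and the twisting automorphism. -/
structure Hyp [Fintype K] (φ : K ≃+* K) (q : ℕ) : Prop where
  cube : ∀ x, φ (φ (φ x)) = x
  fixed : Nat.card {x : K // φ x = x} = q
  card : Fintype.card K = q ^ 3
  two_le : 2 ≤ q

variable [Fintype K] {φ : K ≃+* K} {q : ℕ} (h : Hyp φ q)
include h

theorem exists_moved : ∃ x, φ x ≠ x := by
  by_contra hc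
  push Not at hc
  have h1 : Nat.card {x : K // φ x = x} = q ^ 3 := by
    rw [Nat.card_congr (Equiv.subtypeUnivEquiv hc), Nat.card_eq_fintype_card, h.card]
  rw [h.fixed] at h1
  have h2 := h.two_le
  have : q * 4 ≤ q ^ 3 := by
    rw [pow_succ', sq]; exact Nat.mul_le_mul_left q (Nat.mul_le_mul h2 h2)
  omega

/-- A torus element fixing the long classes and moving the short ones. -/
theorem exists_h0 : ∃ a : Kˣ, (a : K) * φ a * φ (φ a) = 1 ∧ a ≠ 1 ∧
    ∀ r ∈ [18, 13, 12, 19, 16, 15, 17, 20, 21], torusChar chevD4 (cD φ a 1) r ≠ 1 := by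
  obtain ⟨x, hx⟩ := exists_moved h
  have hx0 : x ≠ 0 := by rintro rfl; exact hx (map_zero φ)
  have h1 : φ x ≠ 0 := (map_ne_zero φ).2 hx0
  have h2 : φ (φ x) ≠ 0 := (map_ne_zero φ).2 h1
  refine ⟨Units.mk0 (φ x / x) (div_ne_zero h1 hx0), ?_, ?_, ?_⟩
  · simp only [Units.val_mk0, map_div₀, h.cube]
    field_simp
  · intro e
    have := congrArg Units.val e
    rw [Units.val_mk0, Units.val_one, div_eq_one_iff_eq hx0] at this
    exact hx this
  · set a : Kˣ := Units.mk0 (φ x / x) (div_ne_zero h1 hx0) with ha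
    have hN : (a : K) * φ a * φ (φ a) = 1 := by
      simp only [a, Units.val_mk0, map_div₀, h.cube]
      field_simp
    have hsq : ∀ b : K, b * φ b * φ (φ b) = 1 → b ^ 2 = 1 → b = 1 := by
      intro b hb hb2
      rcases sq_eq_one_iff.1 hb2 with e | e
      · exact e
      · rw [e, map_neg, map_one, map_neg, map_one] at hb
        rw [e]
        linear_combination hb
    have ha1 : (a : K) ≠ 1 := by
      simp only [a, Units.val_mk0, ne_eq, div_eq_one_iff_eq hx0]; exact hx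
    have hN1 : φ (a : K) * φ (φ a) * a = 1 := by linear_combination hN
    have hN2 : φ (φ (a : K)) * a * φ a = 1 := by linear_combination hN
    have hA : (a : K) ^ 2 ≠ 1 := fun e => ha1 (hsq _ hN e)
    have hB : φ (a : K) ^ 2 ≠ 1 := fun e => ha1 (φ.injective (by
      rw [map_one]; exact hsq _ (by rw [h.cube]; exact hN1) e))
    have hC : φ (φ (a : K)) ^ 2 ≠ 1 := fun e => ha1 (φ.injective (φ.injective (by
      rw [map_one, map_one]; exact hsq _ (by rw [h.cube]; exact hN2) e)))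
    have n0 : (a : K) ≠ 0 := a.ne_zero
    have n1 : φ (a : K) ≠ 0 := (map_ne_zero φ).2 n0
    have n2 : φ (φ (a : K)) ≠ 0 := (map_ne_zero φ).2 n1
    obtain ⟨⟨e18, e13, e12⟩, ⟨e19, e16, e15⟩, e17, e20, e21⟩ := chars_short φ a 1
    simp only [Units.val_one, div_one, mul_one] at e18 e13 e12 e19 e16 e15
    have f19 : (a : K) / (φ a * φ (φ a)) = a ^ 2 := by
      field_simp; linear_combination (-1 : K) * hN
    have f16 : φ (a : K) / (a * φ (φ a)) = φ a ^ 2 := by
      field_simp; linear_combination (-1 : K) * hN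
    have f15 : φ (φ (a : K)) / (a * φ a) = φ (φ a) ^ 2 := by
      field_simp; linear_combination (-1 : K) * hN
    have f17 : φ (a : K) * φ (φ a) / a = ((a : K) ^ 2)⁻¹ := by
      field_simp; linear_combination hN
    have f20 : (a : K) * φ (φ a) / φ a = (φ (a : K) ^ 2)⁻¹ := by
      field_simp; linear_combination hN
    have f21 : (a : K) * φ a / φ (φ a) = (φ (φ (a : K)) ^ 2)⁻¹ := by
      field_simp; linear_combination hN
    intro r hr e
    have e' : (torusChar chevD4 (cD φ a 1) r : K) = 1 := by rw [e, Units.val_one]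
    simp only [List.mem_cons, List.not_mem_nil, or_false] at hr
    rcases hr with rfl | rfl | rfl | rfl | rfl | rfl | rfl | rfl | rfl
    · exact hA (e18 ▸ e')
    · exact hB (e13 ▸ e')
    · exact hC (e12 ▸ e')
    · rw [e19, f19] at e'; exact hA e'
    · rw [e16, f16] at e'; exact hB e'
    · rw [e15, f15] at e'; exact hC e'
    · rw [e17, f17, inv_eq_one] at e'; exact hA e'
    · rw [e20, f20, inv_eq_one] at e'; exact hB e'
    · rw [e21, f21, inv_eq_one] at e'; exact hC e'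

omit [Fintype K] h in
/-- Pairs of places whose classes commute. -/
theorem commuting_check : ∀ p ∈ [((0 : Fin 6), (1 : Fin 6)), (1, 2), (2, 3), (3, 4), (4, 5), (0, 3), (1, 4),
    (2, 5), (1, 3), (3, 5)], ∀ r ∈ rootsAt p.1.val, ∀ s ∈ rootsAt p.2.val,
      chevD4.commTerms r s = [] ∧ s ≠ chevD4.neg r := by decide +kernel

omit [Fintype K] h in
theorem commute_places {i j : Fin 6} (hp : (i, j) ∈ [((0 : Fin 6), (1 : Fin 6)), (1, 2), (2, 3), (3, 4), (4, 5),
    (0, 3), (1, 4), (2, 5), (1, 3), (3, 5)]) {x y : GL chevD4.Idx K} (hx : x ∈ Xp φ i.val)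
    (hy : y ∈ Xp φ j.val) : Commute x y := by
  obtain ⟨t, rfl⟩ := exists_pr φ i hx.1
  obtain ⟨u, rfl⟩ := exists_pr φ j hy.1
  refine commute_pr fun s hs => Commute.symm (commute_pr fun r hr => Commute.symm ?_)
  obtain ⟨h1, h2⟩ := commuting_check (i, j) hp r hr s hs
  exact xg_commute ((rootsAt_check i).2.1 r hr).1 ((rootsAt_check j).2.1 s hs).1 h1 h2 _ _

/-! ### The class of the long root `3a + b` is made of commutators -/

omit [Fintype K] h in
theorem linform_zero {v₀ v₁ v₂ : K} {φ : K ≃+* K} (hcube : ∀ x, φ (φ (φ x)) = x) (hmoved : ∃ x, φ x ≠ x)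
    (hz : ∀ t, v₀ * t + v₁ * φ t + v₂ * φ (φ t) = 0) : v₀ = 0 ∧ v₁ = 0 ∧ v₂ = 0 := by
  classical
  obtain ⟨x, hx⟩ := hmoved
  have hx2 : φ (φ x) ≠ x := fun e => hx (by have := hcube x; rwa [e] at this)
  let f : Fin 3 → (K →* K) :=
    ![MonoidHom.id K, (φ : K →* K), (φ : K →* K).comp (φ : K →* K)]
  have hf : Function.Injective f := by
    intro i j e
    have e' := fun y => DFunLike.congr_fun e y
    fin_cases i <;> fin_cases j <;> first
      | rfl
      | exfalso
        have h1 := e' x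
        simp [f] at h1
        first
          | exact hx h1
          | exact hx h1.symm
          | exact hx2 h1
          | exact hx2 h1.symm
  have hli := ((linearIndependent_monoidHom K K).comp f hf)
  rw [Fintype.linearIndependent_iff] at hli
  have := hli ![v₀, v₁, v₂] (by
    funext t
    simp only [Finset.sum_apply, Pi.smul_apply, Function.comp_apply, smul_eq_mul, Fin.sum_univ_three, Pi.zero_apply]
    simpa [f] using hz t)
  exact ⟨this 0, this 1, this 2⟩

omit h in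
theorem comm22_check : chevD4.commTerms 18 17 = [(22, -1, 1, 1)] ∧ chevD4.commTerms 13 20 = [(22, 1, 1, 1)] ∧
    chevD4.commTerms 12 21 = [(22, 1, 1, 1)] ∧
    (17 : ℕ) ≠ chevD4.neg 18 ∧ (20 : ℕ) ≠ chevD4.neg 13 ∧ (21 : ℕ) ≠ chevD4.neg 12 ∧
    ∀ p ∈ [(18, 20), (18, 21), (13, 17), (13, 21), (12, 17), (12, 20), (22, 18), (22, 13), (22, 12), (22, 17),
      (22, 20), (22, 21)], chevD4.commTerms p.1 p.2 = [] ∧ p.2 ≠ chevD4.neg p.1 ∧ p.1 < 24 ∧ p.2 < 24 := by
  decide +kernel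

omit [Fintype K] h in
theorem comm_word {r s k : ℕ} (hr : r < 24) (hs : s < 24) (h1 : s ≠ r) (h2 : s ≠ chevD4.neg r) {c : ℤ}
    (h3 : chevD4.commTerms r s = [(k, c, 1, 1)]) (t u : K) : ⁅X r t, X s u⁆ = X k ((c : K) * (t * u)) := by
  have hD : Good chevD4 := D4.good
  have e := hD.xg_commutator (hn.symm ▸ hr) (hn.symm ▸ hs) h1 h2 (-t) (-u)
  rw [hD.xg_inv, hD.xg_inv, _root_.neg_neg, _root_.neg_neg, ChevalleyDatum.commWord, h3] at e
  simp only [wordG, List.map_cons, List.map_nil, List.prod_cons, List.prod_nil, mul_one, pow_one,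
    _root_.neg_neg] at e
  have e' : ⁅X r t, X s u⁆ = (X s u * X r t * X s (-u) * X r (-t))⁻¹ := by
    simp only [commutatorElement_def, mul_inv_rev, hD.xg_inv, _root_.neg_neg, mul_assoc]
  rw [e', e, hD.xg_inv]
  congr 1
  ring

omit h in
theorem comm_prod {G : Type*} [Group G] {a b c x y z p q w : G} (hp : ⁅a, x⁆ = p) (hq : ⁅b, y⁆ = q)
    (hw : ⁅c, z⁆ = w) (hay : Commute a y) (haz : Commute a z) (hbx : Commute b x) (hbz : Commute b z)
    (hcx : Commute c x) (hcy : Commute c y)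
    (hc : ∀ g, g = a ∨ g = b ∨ g = c ∨ g = x ∨ g = y ∨ g = z →
      Commute p g ∧ Commute q g ∧ Commute w g) (hpq : Commute p q) (hpw : Commute p w) (hqw : Commute q w) :
    ⁅a * (b * c), x * (y * z)⁆ = p * q * w := by
  have e1 : ∀ g, g = a ∨ g = b ∨ g = c → ∀ r₁ r₂ r₃, ⁅g, x⁆ = r₁ → ⁅g, y⁆ = r₂ → ⁅g, z⁆ = r₃ →
      Commute r₂ x → Commute r₃ x → Commute r₃ y → ⁅g, x * (y * z)⁆ = r₁ * (r₂ * r₃) := by
    intro g _ r₁ r₂ r₃ h₁ h₂ h₃ k₁ k₂ k₃
    calc ⁅g, x * (y * z)⁆ = ⁅g, x⁆ * (x * ⁅g, y⁆ * (y * ⁅g, z⁆ * y⁻¹) * x⁻¹) := by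
          simp only [commutatorElement_def]; group
      _ = r₁ * (x * r₂ * r₃ * x⁻¹) := by
          rw [h₁, h₂, h₃, ← k₃.eq, mul_inv_cancel_right]
      _ = r₁ * (r₂ * r₃) := by
          rw [mul_assoc x r₂, ← (k₁.mul_left k₂).eq, mul_inv_cancel_right]
  have triv : ∀ {g k : G}, Commute g k → ⁅g, k⁆ = 1 := fun h => commutatorElement_eq_one_iff_commute.2 h
  have ea := e1 a (Or.inl rfl) p 1 1 hp (triv hay) (triv haz) (Commute.one_left _) (Commute.one_left _)
    (Commute.one_left _)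
  have eb := e1 b (Or.inr (Or.inl rfl)) 1 q 1 (triv hbx) hq (triv hbz) (hc x (by simp)).2.1
    (Commute.one_left _) (Commute.one_left _)
  have ec := e1 c (Or.inr (Or.inr rfl)) 1 1 w (triv hcx) (triv hcy) hw (Commute.one_left _) (hc x (by simp)).2.2
    (hc y (by simp)).2.2
  simp only [mul_one, one_mul] at ea eb ec
  calc ⁅a * (b * c), x * (y * z)⁆
      = a * (b * ⁅c, x * (y * z)⁆ * b⁻¹ * ⁅b, x * (y * z)⁆) * a⁻¹ * ⁅a, x * (y * z)⁆ := by
        simp only [commutatorElement_def]; group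
    _ = a * (b * w * b⁻¹ * q) * a⁻¹ * p := by rw [ea, eb, ec]
    _ = w * q * p := by
        rw [← (hc b (by simp)).2.2.eq, mul_inv_cancel_right,
          ← ((hc a (by simp)).2.2.mul_left (hc a (by simp)).2.1).eq, mul_inv_cancel_right]
    _ = p * q * w := by rw [hqw.symm.eq, mul_assoc, hpw.symm.eq, ← mul_assoc, hpq.symm.eq]

omit [Fintype K] h in
theorem comm_eA (t v₀ v₁ v₂ : K) :
    ⁅eA φ t, X 17 v₀ * (X 20 v₁ * X 21 v₂)⁆ =
      X 22 (-(t * v₀) + φ t * v₁ + φ (φ t) * v₂) := by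
  have hD : Good chevD4 := D4.good
  obtain ⟨c1, c2, c3, n1, n2, n3, cc⟩ := comm22_check
  have com : ∀ {r s : ℕ}, (r, s) ∈ [(18, 20), (18, 21), (13, 17), (13, 21), (12, 17), (12, 20), (22, 18), (22, 13),
      (22, 12), (22, 17), (22, 20), (22, 21)] → ∀ t u : K, Commute (X r t) (X s u) := fun hp t u =>
    let ⟨a, b, c, d⟩ := cc _ hp
    xg_commute c d a b t u
  have z22 : ∀ t u : K, Commute (X 22 t) (X 22 u) := fun t u =>
    show _ = _ by rw [hD.xg_add, hD.xg_add, add_comm]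
  rw [eA, comm_prod (comm_word (r := 18) (s := 17) (by omega) (by omega) (by omega) n1 c1 t v₀)
    (comm_word (r := 13) (s := 20) (by omega) (by omega) (by omega) n2 c2 (φ t) v₁)
    (comm_word (r := 12) (s := 21) (by omega) (by omega) (by omega) n3 c3 (φ (φ t)) v₂)
    (com (by simp) _ _) (com (by simp) _ _) (com (by simp) _ _) (com (by simp) _ _) (com (by simp) _ _)
    (com (by simp) _ _) ?_ (z22 _ _) (z22 _ _) (z22 _ _), hD.xg_add, hD.xg_add]
  · congr 1
    push_cast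
    ring
  · rintro g (rfl | rfl | rfl | rfl | rfl | rfl) <;>
      exact ⟨com (by simp) _ _, com (by simp) _ _, com (by simp) _ _⟩

omit [Fintype K] h in
theorem rootsAt_one : rootsAt 1 = [22] ∧ rootsAt 2 = [17, 20, 21] ∧ pos 0 = 6 ∧ pos 1 = 10 ∧ pos 2 = 9 :=
  ⟨rfl, rfl, rfl, rfl, rfl⟩

theorem card_Xp_one : Nat.card (Xp φ 1) = q := by
  have e := BNSetup.card_X' D4.good orbD4_ok φ facts_chevD4 negTri_chevD4 graphD4_cols (10 : Fin 12)
  rw [show (orbD4.reachF 12 2 10).2 = 0 from by decide +kernel] at e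
  refine (show Nat.card (Xp φ 1) = _ from e).trans ?_
  exact (BNSetup.card_X'_D4 h.card h.cube h.fixed 0).trans (pow_one q)

/-- The class at place 1 is generated by commutators of the classes at 0 and 2. -/
theorem one_generated :
    Xp φ 1 ≤ Subgroup.closure {c | ∃ x ∈ Xp φ 0, ∃ y ∈ Xp φ 2, c = ⁅x, y⁆} := by
  have hD : Good chevD4 := D4.good
  obtain ⟨y, hy, hy1⟩ : ∃ y ∈ Xp φ 2, y ≠ 1 := by
    by_contra hc
    push Not at hc
    exact RootBN.Twist.X'_ne_bot' (hT φ) (pos 2) ((Subgroup.eq_bot_iff_forall _).2 hc)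
  obtain ⟨v, hv⟩ := exists_pr φ (2 : Fin 6) hy.1
  have hv' : y = X 17 (v 17) * (X 20 (v 20) * X 21 (v 21)) := by
    rw [hv]; simp [rootsAt]
  obtain ⟨t, ht⟩ : ∃ t, -(t * v 17) + φ t * v 20 + φ (φ t) * v 21 ≠ 0 := by
    by_contra hc
    push Not at hc
    obtain ⟨e0, e1, e2⟩ := linform_zero (v₀ := -v 17) (v₁ := v 20) (v₂ := v 21) h.cube (exists_moved h)
      fun t => by linear_combination hc t
    refine hy1 ?_
    rw [hv', neg_eq_zero.1 e0, e1, e2, hD.xg_zero, hD.xg_zero, hD.xg_zero, one_mul, one_mul]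
  set z := -(t * v 17) + φ t * v 20 + φ (φ t) * v 21 with hz
  have hzc : X 22 z = ⁅eA φ t, y⁆ := by rw [hv', comm_eA]
  have hA : eA φ t ∈ Xp φ 0 := eA_mem φ h.cube t
  have hmem : X 22 z ∈ Xp φ 1 := by
    have := comm_p φ 0 2 (by norm_num) (by norm_num) _ hA _ hy
    rw [← hzc, Schur.RootLift.V_split _ (by norm_num), Schur.RootLift.V_empty _ le_rfl, sup_bot_eq] at this
    exact this
  set C := Subgroup.closure {c | ∃ x ∈ Xp φ 0, ∃ y ∈ Xp φ 2, c = ⁅x, y⁆} with hC
  have hgen : ∀ s : K, φ s = s → X 22 (s * z) ∈ Xp φ 1 ⊓ C := by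
    intro s hs
    by_cases hs0 : s = 0
    · rw [hs0, zero_mul, hD.xg_zero]; exact Subgroup.one_mem _
    let s' : Kˣ := (Units.mk0 s hs0)⁻¹
    have hs' : φ (s' : K) = s' := by simp [s', map_inv₀, hs]
    set c := cD φ 1 s'
    have hcH := cD_mem_H φ h.cube (a := 1) hs'
    have e : torusHom K chevD4 c * X 22 z * (torusHom K chevD4 c)⁻¹ = X 22 (s * z) := by
      rw [conj_xg c (by norm_num), (chars_long φ 1 s').2.1]
      simp [s']
    have hconj : ∀ o, ∀ x ∈ Xp φ o, torusHom K chevD4 c * x * (torusHom K chevD4 c)⁻¹ ∈ Xp φ o :=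
      fun o x hx => (hax φ).H_conj (pos o) _ hcH _ hx
    refine ⟨e ▸ hconj 1 _ hmem, e ▸ Subgroup.subset_closure ⟨_, hconj 0 _ hA, _, hconj 2 _ hy, ?_⟩⟩
    rw [hzc]
    simp only [commutatorElement_def]; group
  let f : {x : K // φ x = x} → Xp φ 1 := fun s => ⟨X 22 (s.1 * z), (hgen s.1 s.2).1⟩
  have hf : Function.Injective f := fun a b e =>
    Subtype.ext (mul_right_cancel₀ ht (xg_inj (by norm_num) (by norm_num) (congrArg Subtype.val e)))
  have hb : Function.Bijective f :=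
    (Nat.bijective_iff_injective_and_card f).2 ⟨hf, by rw [h.fixed, card_Xp_one h]⟩
  intro x hx
  obtain ⟨s, e⟩ := hb.2 ⟨x, hx⟩
  rw [show x = X 22 (s.1 * z) from (congrArg Subtype.val e).symm]
  exact (hgen s.1 s.2).2

/-! ### Preimages -/

variable {E : Type*} [Group E] {π : E →* GL chevD4.Idx K} (hrange : (tw3D4 φ).Gt ≤ π.range)
  (hz : π.ker ≤ Subgroup.center E)
include hrange hz

omit [Fintype K] h hz in
theorem le_range (i : ℕ) : Xp φ i ≤ π.range := (Xp_le_Gt φ i).trans hrange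

/-- Preimages of a long and a short class that commute. -/
theorem lift_comm_long_short {i j : Fin 6} (hi : i ∈ [(1 : Fin 6), 3, 5]) (hj : j ∈ [(0 : Fin 6), 2, 4])
    (hp : ∀ x ∈ Xp φ i.val, ∀ y ∈ Xp φ j.val, Commute x y) :
    ∀ a b, π a ∈ Xp φ i.val → π b ∈ Xp φ j.val → ⁅a, b⁆ = 1 := by
  obtain ⟨a, hN, -, hch⟩ := exists_h0 h
  have hH := cD_mem_H φ h.cube (a := a) (s := 1) (map_one φ)
  obtain ⟨g, hg⟩ := hrange hH.2
  refine lift_comm_of_fpf hz (le_range hrange j.val) hp g (fun x hx => ?_) (fun y hy => ?_)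
  · rw [hg]
    refine fix_of_chars φ i (fun r hr => ?_) hx
    obtain ⟨e14, e22, e23⟩ := chars_long φ a 1
    simp only [List.mem_cons, List.not_mem_nil, or_false] at hi
    rcases hi with rfl | rfl | rfl <;> simp [rootsAt] at hr <;> subst hr <;> refine Units.ext ?_
    · rw [e22, hN]; simp
    · rw [e23]
    · rw [e14, hN]; simp
  · rw [hg]
    refine sur_of_chars φ hH j (fun r hr => hch r ?_) hy
    simp only [List.mem_cons, List.not_mem_nil, or_false] at hj
    rcases hj with rfl | rfl | rfl <;> simp [rootsAt] at hr ⊢ <;> tauto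

omit [Fintype K] h hz in
/-- Transport along a reflection. -/
theorem lift_comm_refl (k : Fin 2) {i j i' j' : ℕ} (hi : orbD4.reflF 12 2 k (pos i) = pos i')
    (hj : orbD4.reflF 12 2 k (pos j) = pos j')
    (h0 : ∀ a b, π a ∈ Xp φ i → π b ∈ Xp φ j → ⁅a, b⁆ = 1) :
    ∀ a b, π a ∈ Xp φ i' → π b ∈ Xp φ j' → ⁅a, b⁆ = 1 := by
  obtain ⟨e, he⟩ := hrange ((hT φ).nn'_mem k)
  have key : ∀ {i i' : ℕ}, orbD4.reflF 12 2 k (pos i) = pos i' → ∀ x ∈ Xp φ i',
      (π e)⁻¹ * x * π e ∈ Xp φ i := by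
    intro i i' hi x hx
    have hact := Data.acts_nw (hax φ) [k] (pos i) ((π e)⁻¹ * x * π e)
    rw [show (tw3D4 φ).data.nw [k] = π e by simp [he]; rfl,
      show (tw3D4 φ).data.wl [k] (pos i) = pos i' by rw [D4Invol.wl_apply]; exact hi] at hact
    have hx' : x ∈ (tw3D4 φ).data.X (pos i') := hx
    exact hact.1 (by simpa [mul_assoc] using hx')
  exact lift_comm_conj e (key hi) (key hj) h0

omit [Fintype K] h hz hrange in
theorem symm_comm {A B : Subgroup (GL chevD4.Idx K)} (h0 : ∀ a b, π a ∈ A → π b ∈ B → ⁅a, b⁆ = 1) :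
    ∀ b a, π b ∈ B → π a ∈ A → ⁅b, a⁆ = 1 := fun b a hb ha => by
  rw [← commutatorElement_inv, h0 a b ha hb, inv_one]

/-- Preimages of the class of `a` commute. -/
theorem lift_comm_zero : ∀ a b, π a ∈ Xp φ 0 → π b ∈ Xp φ 0 → ⁅a, b⁆ = 1 := by
  have hmem : ∀ t, eA φ t ∈ Xp φ 0 := fun t => eA_mem φ h.cube t
  choose L hL using fun t : K => le_range hrange 0 (hmem t)
  let _ : CommGroup π.ker :=
    { (inferInstance : Group π.ker) with
      mul_comm := fun x y => Subtype.ext (Subgroup.mem_center_iff.1 (hz y.2) (x : E)) }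
  have hadd : ∀ t u, eA φ t * eA φ u = eA φ (t + u) := fun t u => by
    obtain ⟨-, h2, -, h4⟩ := rootsAt_check 0
    let f : K → ℕ → K := fun t r => if r = 18 then t else if r = 13 then φ t else φ (φ t)
    have e : ∀ t, eA φ t = pr (rootsAt 0) (f t) := fun t => by simp [eA, rootsAt, f]
    rw [e, e, e, pr_mul (rootsAt 0) (fun r hr => (h2 r hr).1)
      (fun r hr s hs => ⟨(h4 r hr s hs).1, (h4 r hr s hs).2.2⟩)]
    exact pr_congr fun r _ => by simp only [f, Pi.add_apply]; split_ifs <;> simp [map_add]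
  have hcomm : ∀ t u, π ⁅L t, L u⁆ = 1 := fun t u => by
    rw [map_commutatorElement, hL, hL, commutatorElement_eq_one_iff_mul_comm, hadd, hadd, add_comm]
  intro a b ha hb
  obtain ⟨t, et⟩ := exists_eA φ ha
  obtain ⟨t', et'⟩ := exists_eA φ hb
  rw [Schur.commutatorElement_congr hz (show π a = π (L t) by rw [hL, et])
    (show π b = π (L t') by rw [hL, et'])]
  obtain ⟨n1, n4, n9⟩ : ¬ (Fintype.card K).Prime ∧ Fintype.card K ≠ 4 ∧ Fintype.card K ≠ 9 := by
    rw [h.card]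
    refine ⟨Nat.Prime.not_prime_pow (by norm_num), ?_, ?_⟩ <;>
    · intro e
      rcases Nat.lt_or_ge q 3 with hq | hq
      · obtain rfl : q = 2 := by have := h.two_le; omega
        norm_num at e
      · have := Nat.pow_le_pow_left hq 3
        omega
  let β : K → K → π.ker := fun t u => ⟨⁅L t, L u⁆, hcomm t u⟩
  refine congrArg Subtype.val (S2117.pairing_trivial n1 n4 n9 β ?_ ?_ ?_ t t')
  · intro u u' v
    refine Subtype.ext ?_
    show ⁅L (u + u'), L v⁆ = ⁅L u, L v⁆ * ⁅L u', L v⁆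
    rw [Schur.commutatorElement_congr hz (show π (L (u + u')) = π (L u * L u') by
      rw [map_mul, hL, hL, hL, hadd]) rfl]
    calc ⁅L u * L u', L v⁆ = L u * ⁅L u', L v⁆ * (L u)⁻¹ * ⁅L u, L v⁆ := by
          simp only [commutatorElement_def]; group
      _ = _ := by rw [cen hz (hcomm u' v) (L u), mul_inv_cancel_right, cen hz (hcomm u v)]
  · intro u v v'
    refine Subtype.ext ?_
    show ⁅L u, L (v + v')⁆ = ⁅L u, L v⁆ * ⁅L u, L v'⁆
    rw [Schur.commutatorElement_congr hz rfl (show π (L (v + v')) = π (L v * L v') by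
      rw [map_mul, hL, hL, hL, hadd])]
    calc ⁅L u, L v * L v'⁆ = ⁅L u, L v⁆ * (L v * ⁅L u, L v'⁆ * (L v)⁻¹) := by
          simp only [commutatorElement_def]; group
      _ = _ := by rw [cen hz (hcomm u v') (L v), mul_inv_cancel_right]
  · intro s u v hs
    set s' := Units.mk0 s hs
    have hH := cD_mem_H φ h.cube (a := s') (s := 1) (map_one φ)
    obtain ⟨g, hg⟩ := hrange hH.2
    have himg : ∀ t, π (g * L t * g⁻¹) = eA φ (s * s * t) := fun t => by
      obtain ⟨⟨e18, e13, e12⟩, -⟩ := chars_short φ s' 1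
      rw [map_mul, map_mul, map_inv, hg, hL, eA, eA, ← conj_mul, ← conj_mul, conj_xg _ (by norm_num),
        conj_xg _ (by norm_num), conj_xg _ (by norm_num), e18, e13, e12]
      simp [s', map_mul, sq]
    refine Subtype.ext ?_
    show ⁅L (s * s * u), L (s * s * v)⁆ = ⁅L u, L v⁆
    rw [Schur.commutatorElement_congr hz ((hL _).trans (himg u).symm) ((hL _).trans (himg v).symm)]
    calc ⁅g * L u * g⁻¹, g * L v * g⁻¹⁆ = g * ⁅L u, L v⁆ * g⁻¹ := by
          simp only [commutatorElement_def]; group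
      _ = _ := by rw [cen hz (hcomm u v), mul_inv_cancel_right]

omit [Fintype K] h hrange hz in
theorem refl_table : orbD4.reflF 12 2 0 (pos 0) = pos 4 ∧ orbD4.reflF 12 2 0 (pos 1) = pos 3 ∧
    orbD4.reflF 12 2 1 (pos 4) = pos 2 ∧ orbD4.reflF 12 2 1 (pos 1) = pos 5 ∧
    orbD4.reflF 12 2 1 (pos 3) = pos 3 := by decide +kernel

/-- Preimages of commuting classes commute. -/
theorem lift_comm_all {i j : Fin 6} (hp : (i, j) ∈ [((0 : Fin 6), (1 : Fin 6)), (1, 2), (2, 3), (3, 4), (4, 5),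
    (0, 3), (1, 4), (2, 5), (1, 3), (3, 5), (0, 0), (1, 1), (2, 2), (3, 3), (4, 4), (5, 5)]) :
    ∀ a b, π a ∈ Xp φ i.val → π b ∈ Xp φ j.val → ⁅a, b⁆ = 1 := by
  obtain ⟨r04, r13, r42, r15, r33⟩ := refl_table
  have ls : ∀ {i j : Fin 6}, i ∈ [(1 : Fin 6), 3, 5] → j ∈ [(0 : Fin 6), 2, 4] →
      ((i, j) ∈ [((0 : Fin 6), (1 : Fin 6)), (1, 2), (2, 3), (3, 4), (4, 5), (0, 3), (1, 4), (2, 5), (1, 3), (3, 5)] ∨
        (j, i) ∈ [((0 : Fin 6), (1 : Fin 6)), (1, 2), (2, 3), (3, 4), (4, 5), (0, 3), (1, 4), (2, 5), (1, 3),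
          (3, 5)]) → ∀ a b, π a ∈ Xp φ i.val → π b ∈ Xp φ j.val → ⁅a, b⁆ = 1 := fun hi hj hp =>
    lift_comm_long_short h hrange hz hi hj fun x hx y hy => hp.elim (fun hp => commute_places hp hx hy)
      fun hp => (commute_places hp hy hx).symm
  have c10 := ls (i := 1) (j := 0) (by decide) (by decide) (by decide)
  have c12 := ls (i := 1) (j := 2) (by decide) (by decide) (by decide)
  have c30 := ls (i := 3) (j := 0) (by decide) (by decide) (by decide)
  have c32 := ls (i := 3) (j := 2) (by decide) (by decide) (by decide)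
  have c11 := lift_comm_of_generated hz (le_range hrange 0) (le_range hrange 2) (one_generated h)
    (Z := Xp φ 1) c10 c12
  have c31 := lift_comm_of_generated hz (le_range hrange 0) (le_range hrange 2) (one_generated h)
    (Z := Xp φ 3) c30 c32
  have c00 := lift_comm_zero h hrange hz
  have c44 := lift_comm_refl hrange 0 r04 r04 c00
  have c33 := lift_comm_refl hrange 0 r13 r13 c11
  have c55 := lift_comm_refl hrange 1 r15 r15 c11
  have c35 := lift_comm_refl hrange 1 r33 r15 c31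
  have c22 := lift_comm_refl hrange 1 r42 r42 c44
  simp only [List.mem_cons, List.not_mem_nil, or_false, Prod.mk.injEq] at hp
  rcases hp with ⟨rfl, rfl⟩ | ⟨rfl, rfl⟩ | ⟨rfl, rfl⟩ | ⟨rfl, rfl⟩ | ⟨rfl, rfl⟩ | ⟨rfl, rfl⟩ | ⟨rfl, rfl⟩ |
    ⟨rfl, rfl⟩ | ⟨rfl, rfl⟩ | ⟨rfl, rfl⟩ | ⟨rfl, rfl⟩ | ⟨rfl, rfl⟩ | ⟨rfl, rfl⟩ | ⟨rfl, rfl⟩ | ⟨rfl, rfl⟩ |
    ⟨rfl, rfl⟩
  · exact symm_comm c10
  · exact c12
  · exact symm_comm c32
  · exact ls (by decide) (by decide) (by decide)
  · exact symm_comm (ls (i := 5) (j := 4) (by decide) (by decide) (by decide))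
  · exact symm_comm c30
  · exact ls (by decide) (by decide) (by decide)
  · exact symm_comm (ls (i := 5) (j := 2) (by decide) (by decide) (by decide))
  · exact symm_comm c31
  · exact c35
  · exact c00
  · exact c11
  · exact c22
  · exact c33
  · exact c44
  · exact c55

end Cfsg.Agent.D4Stem
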