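/-
³D₄(q): the rank one groups are images of SL₂ and share no torus element.
-/
import Cfsg.Agent.Lib.Chev.D4Stem.Chars
import Cfsg.Agent.Lib.Chev.SL2

set_option autoImplicit false

namespace Cfsg.Agent.D4Stem

open Cfsg.Lie Cfsg.Agent.Chev
open Cfsg.Agent.RootBN (Data)
open Cfsg.Agent.Chev.BNSetup (tw3D4 orbD4 orbD4_ok facts_chevD4 negTri_chevD4 graphD4_cols torusHom torusChar
  xg_eq_xe)
open Cfsg.Agent.D4Invol (hn hT hax Jl_facts)
open scoped commutatorElement MatrixGroups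

theorem sides_table : (∀ k : Fin 4, chevD4.simple k.val = [18, 14, 13, 12].getD k.val 0 ∧
      chevD4.neg (chevD4.simple k.val) = [5, 9, 10, 11].getD k.val 0) ∧
    chevD4.neg 14 = 9 ∧ chevD4.neg 18 = 5 ∧ chevD4.neg 13 = 10 ∧ chevD4.neg 12 = 11 := by decide +kernel

theorem sides_comm : (∀ r ∈ [18, 5], ∀ s ∈ [13, 10, 12, 11],
      chevD4.commTerms r s = [] ∧ s ≠ chevD4.neg r ∧ r < 24 ∧ s < 24) ∧
    (∀ r ∈ [13, 10], ∀ s ∈ [12, 11], chevD4.commTerms r s = [] ∧ s ≠ chevD4.neg r ∧ r < 24 ∧ s < 24) ∧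
    (∀ r ∈ [14, 9], ∀ s ∈ [17, 20, 21], chevD4.commTerms r s = [] ∧ s ≠ chevD4.neg r ∧ r < 24 ∧ s < 24) ∧
    ∀ r ∈ [18, 13, 12, 5, 10, 11], ∀ s ∈ [23], chevD4.commTerms r s = [] ∧ s ≠ chevD4.neg r ∧ r < 24 ∧ s < 24 := by
  decide +kernel

variable {K : Type*} [Field K]

/-- The root element. -/
local notation "X" => xg chevD4 K

theorem flipSL_eq {F : Type*} [Field F] : (flipSL : SL(2, F)) = upperSL 1 * lowerSL (-1) * upperSL 1 := by
  apply Subtype.ext
  simp only [Matrix.SpecialLinearGroup.coe_mul]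
  ext i j; fin_cases i <;> fin_cases j <;>
    simp [coe_lowerSL, coe_upperSL, coe_flipSL, Matrix.mul_apply, Fin.sum_univ_two]

theorem torusSL_eq {F : Type*} [Field F] {a : F} (ha : a ≠ 0) :
    torusSL a = upperSL a * lowerSL (-a⁻¹) * upperSL a * (upperSL (-1) * lowerSL 1 * upperSL (-1)) := by
  apply Subtype.ext
  simp only [Matrix.SpecialLinearGroup.coe_mul, coe_torusSL ha]
  ext i j; fin_cases i <;> fin_cases j <;>
    simp [coe_lowerSL, coe_upperSL, Matrix.mul_apply, Fin.sum_univ_two, ha]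

theorem hom_torusSL {F : Type*} [Field F] {G : Type*} [Group G] (ψ : SL(2, F) →* G) {x y : F → G}
    (h1 : ∀ t, ψ (upperSL t) = x t) (h2 : ∀ t, ψ (lowerSL t) = y t) {a : F} (ha : a ≠ 0) :
    ψ (torusSL a) = x a * y (-a⁻¹) * x a * (x (-1) * y 1 * x (-1)) := by
  simp only [torusSL_eq ha, map_mul, h1, h2]

/-- The homomorphism of a root sends the diagonal elements to those of the torus. -/
theorem root_torus {r : ℕ} {ψ : SL(2, K) →* GL chevD4.Idx K} (h1 : ∀ t, ψ (upperSL t) = X r t)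
    (h2 : ∀ t, ψ (lowerSL t) = X (chevD4.neg r) t) {a : K} (ha : a ≠ 0) :
    ψ (torusSL a) = hG chevD4 K r a := by
  rw [hom_torusSL ψ h1 h2 ha, hG_eq, nG_eq, nG_eq]
  simp [inv_neg]

theorem root_flip {r : ℕ} {ψ : SL(2, K) →* GL chevD4.Idx K} (h1 : ∀ t, ψ (upperSL t) = X r t)
    (h2 : ∀ t, ψ (lowerSL t) = X (chevD4.neg r) t) : ψ flipSL = nG chevD4 K r 1 := by
  rw [flipSL_eq, map_mul, map_mul, h1, h2, nG_eq, inv_one]

theorem xg_pos_mem {r : ℕ} (hr : r < 24) (hr' : 12 ≤ r) (t : K) :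
    X r t ∈ (BNSetup.data D4.good K).U :=
  Data.X_le_U (D := BNSetup.data D4.good K) (r := (⟨r, hn.symm ▸ hr⟩ : Fin chevD4.nroots))
    (show chevD4.nroots / 2 ≤ r by rw [hn]; omega) ((D4.good : Good chevD4).xg_mem_rootSubgroup r t)

theorem xg_neg_mem {r : ℕ} (hr : r < 12) (t : K) :
    X r t ∈ RootBN.Twist.negU (BNSetup.data D4.good K) :=
  le_iSup₂ (f := fun (r : Fin chevD4.nroots) (_ : ¬ (BNSetup.data D4.good K).Pos r) =>
      (BNSetup.data D4.good K).X r) ⟨r, by rw [hn]; omega⟩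
    (show ¬ chevD4.nroots / 2 ≤ r by rw [hn]; omega) ((D4.good : Good chevD4).xg_mem_rootSubgroup r t)

theorem hG_mem_diag {r : ℕ} (hr : r < 24) {a : K} (ha : a ≠ 0) :
    hG chevD4 K r a ∈ (BNSetup.data D4.good K).H := by
  rw [show hG chevD4 K r a = BNSetup.he D4.good r a from
    Units.ext (((D4.good : Good chevD4).coe_hG r a).trans (BNSetup.coe_he D4.good r a).symm)]
  exact BNSetup.he_mem_H D4.good (hn.symm ▸ hr) ha

/-- A representation of SL₂ respecting the triangular decomposition is faithful. -/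
theorem sl2_injective (φ : K ≃+* K) {F : Type*} [Field F] (ψ : SL(2, F) →* GL chevD4.Idx K)
    (hu : ∀ t, ψ (upperSL t) ∈ (BNSetup.data D4.good K).U)
    (hl : ∀ t, ψ (lowerSL t) ∈ RootBN.Twist.negU (BNSetup.data D4.good K))
    (ht : ∀ a, a ≠ 0 → ψ (torusSL a) ∈ (BNSetup.data D4.good K).H)
    (hu1 : ∀ t, ψ (upperSL t) = 1 → t = 0) (ht1 : ∀ a, a ≠ 0 → ψ (torusSL a) = 1 → a = 1) :
    Function.Injective ψ := by
  rw [injective_iff_map_eq_one]
  intro g hg
  have s := sl2Rels_SL (F := F)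
  rcases s.normalForm (eq_upper_torus_lower g) with ⟨α, a, ha, rfl⟩ | ⟨α, a, β, ha, rfl⟩
  · rw [map_mul] at hg
    have hmem : ψ (upperSL α) ∈ chevD4.posUnipotent K ⊓ chevD4.diagonalSubgroup K := by
      refine ⟨by rw [← BNSetup.data_U D4.good facts_chevD4]; exact hu α, ?_⟩
      rw [eq_inv_of_mul_eq_one_left hg]
      exact Subgroup.inv_mem _ (ht a ha)
    rw [BNSetup.U_inf_H facts_chevD4 D4.good, Subgroup.mem_bot] at hmem
    rw [hmem, one_mul] at hg
    rw [hu1 _ hmem, ht1 a ha hg, s.x_zero, s.h_one, one_mul]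
  · exfalso
    simp only [map_mul] at hg
    set D := BNSetup.data D4.good K
    have hf : ψ flipSL ∈ D.B := by
      have e : ψ flipSL = (ψ (torusSL a))⁻¹ * (ψ (upperSL α))⁻¹ * (ψ (upperSL β))⁻¹ := by
        rw [mul_eq_one_iff_eq_inv, mul_assoc, ← eq_inv_mul_iff_mul_eq, ← eq_inv_mul_iff_mul_eq] at hg
        rw [hg]; group
      rw [e]
      exact Subgroup.mul_mem _ (Subgroup.mul_mem _ (Data.H_le_B (D.H.inv_mem (ht a ha)))
        (Data.U_le_B (D.U.inv_mem (hu α)))) (Data.U_le_B (D.U.inv_mem (hu β)))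
    have hlow : ψ (lowerSL (-1)) ∈ D.B ⊓ RootBN.Twist.negU D := by
      refine ⟨?_, hl _⟩
      rw [lowerSL_eq, map_mul, map_mul, map_inv]
      exact Subgroup.mul_mem _ (Subgroup.mul_mem _ hf (Data.U_le_B (hu _))) (Subgroup.inv_mem _ hf)
    rw [(hT φ).B_inf_negU, Subgroup.mem_bot, lowerSL_eq, map_mul, map_mul, map_inv, conj_eq_one_iff] at hlow
    rw [_root_.neg_neg] at hlow
    exact one_ne_zero (hu1 _ hlow)

theorem closure_le_of {F : Type*} [Field F] {ψ : SL(2, F) →* GL chevD4.Idx K} {L : Subgroup (GL chevD4.Idx K)}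
    (hu : ∀ t, ψ (upperSL t) ∈ L) (hl : ∀ t, ψ (lowerSL t) ∈ L) : ψ.range ≤ L := by
  rintro _ ⟨g, rfl⟩
  refine (show Subgroup.closure (Set.range (upperSL (F := F)) ∪ {flipSL}) ≤ L.comap ψ from
    (Subgroup.closure_le _).2 ?_) (eq_upper_torus_lower g)
  rintro _ (⟨t, rfl⟩ | rfl)
  · exact hu t
  · show ψ flipSL ∈ L
    rw [flipSL_eq, map_mul, map_mul]
    exact Subgroup.mul_mem _ (Subgroup.mul_mem _ (hu _) (hl _)) (hu _)

variable (φ : K ≃+* K)

theorem pv_long (a : ℕ → K) :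
    BNSetup.pv D4.good chevD4.simple (orbD4.Jl 2 0) a = X 14 (a 1) ∧
      BNSetup.pv D4.good (fun k => chevD4.neg (chevD4.simple k)) (orbD4.Jl 2 0) a = X 9 (a 1) := by
  have h1 := sides_table.1 1
  simp at h1
  constructor <;> simp [BNSetup.pv, Jl_facts.1, ← xg_eq_xe D4.good, h1, sides_table.2.1]

theorem pv_short (a : ℕ → K) :
    BNSetup.pv D4.good chevD4.simple (orbD4.Jl 2 1) a = X 18 (a 0) * (X 13 (a 2) * X 12 (a 3)) ∧
      BNSetup.pv D4.good (fun k => chevD4.neg (chevD4.simple k)) (orbD4.Jl 2 1) a =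
        X 5 (a 0) * (X 10 (a 2) * X 11 (a 3)) := by
  have h0 := sides_table.1 0
  have h2 := sides_table.1 2
  have h3 := sides_table.1 3
  simp at h0 h2 h3
  constructor <;> simp [BNSetup.pv, Jl_facts.2.1, ← xg_eq_xe D4.good, h0, h2, h3, sides_table.2.2.1,
    sides_table.2.2.2.1, sides_table.2.2.2.2]

/-- The rank one group of a simple class. -/
noncomputable abbrev Lr (j : Fin 2) : Subgroup (GL chevD4.Idx K) :=
  (tw3D4 φ).data.X ((tw3D4 φ).data.simp j) ⊔ (tw3D4 φ).data.X ((tw3D4 φ).data.opp ((tw3D4 φ).data.simp j))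

theorem mem_simp_iff (j : Fin 2) (y : GL chevD4.Idx K) :
    y ∈ (tw3D4 φ).data.X ((tw3D4 φ).data.simp j) ↔ ∃ a, BNSetup.Compat BNSetup.graphD4 φ (orbD4.Jl 2 j) a ∧
      y = BNSetup.pv D4.good chevD4.simple (orbD4.Jl 2 j) a :=
  BNSetup.mem_X'_simp_iff D4.good orbD4_ok φ facts_chevD4 negTri_chevD4 graphD4_cols j

theorem mem_opp_iff (j : Fin 2) (y : GL chevD4.Idx K) :
    y ∈ (tw3D4 φ).data.X ((tw3D4 φ).data.opp ((tw3D4 φ).data.simp j)) ↔
      ∃ a, BNSetup.Compat BNSetup.graphD4 φ (orbD4.Jl 2 j) a ∧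
      y = BNSetup.pv D4.good (fun k => chevD4.neg (chevD4.simple k)) (orbD4.Jl 2 j) a :=
  BNSetup.mem_X'_opp_iff D4.good orbD4_ok φ facts_chevD4 negTri_chevD4 graphD4_cols j

theorem nn_eq (j : Fin 2) : (tw3D4 φ).data.nn j =
    ((orbD4.Jl 2 j).map fun k => nG chevD4 K (chevD4.simple k) 1).prod :=
  (BNSetup.nn'_eq D4.good orbD4_ok φ j).trans (congrArg List.prod (List.map_congr_left fun k _ =>
    (Invol.nG_eq_ne' D4.valid (chevD4.simple k) (1 : K)).symm))

/-- The long rank one group is SL₂ over the fixed field. -/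
theorem rank_long : ∃ ψ : SL(2, ↥((φ : K →+* K).eqLocusField (RingHom.id K))) →* GL chevD4.Idx K,
    Function.Injective ψ ∧ ψ.range = Lr φ 0 ∧ (tw3D4 φ).data.nn 0 ∈ ψ.range := by
  set F := (φ : K →+* K).eqLocusField (RingHom.id K) with hF
  have hfix : ∀ t : F, φ (t : K) = t := fun t => t.2
  obtain ⟨χ, h1, h2⟩ := (D4.good : Good chevD4).exists_sl2_hom (F := K) (r := 14) (hn.symm ▸ (by norm_num))
  let ι := F.subtype
  let ψ : SL(2, F) →* GL chevD4.Idx K := χ.comp (Matrix.SpecialLinearGroup.map ι)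
  have mu : ∀ t : F, Matrix.SpecialLinearGroup.map ι (upperSL t) = upperSL (t : K) := fun t => by
    ext i j; fin_cases i <;> fin_cases j <;> simp [coe_upperSL, ι]
  have ml : ∀ t : F, Matrix.SpecialLinearGroup.map ι (lowerSL t) = lowerSL (t : K) := fun t => by
    ext i j; fin_cases i <;> fin_cases j <;> simp [coe_lowerSL, ι]
  have mt : ∀ a : F, a ≠ 0 → Matrix.SpecialLinearGroup.map ι (torusSL a) = torusSL (a : K) := fun a ha => by
    have ha' : (a : K) ≠ 0 := fun e => ha (Subtype.ext e)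
    ext i j
    rw [Matrix.SpecialLinearGroup.map_apply_coe, coe_torusSL ha', coe_torusSL ha]
    fin_cases i <;> fin_cases j <;> simp [ι]
  have u1 : ∀ t, ψ (upperSL t) = X 14 (t : K) := fun t => by simp [ψ, mu, h1]
  have l1 : ∀ t, ψ (lowerSL t) = X 9 (t : K) := fun t => by simp [ψ, ml, h2, sides_table.2.1]
  refine ⟨ψ, ?_, le_antisymm (closure_le_of (fun t => ?_) fun t => ?_) (sup_le ?_ ?_), ?_⟩
  · refine sl2_injective φ ψ (fun t => u1 t ▸ xg_pos_mem (by norm_num) (by norm_num) _)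
      (fun t => l1 t ▸ xg_neg_mem (by norm_num) _) (fun a ha => ?_) (fun t e => Subtype.ext ?_)
      (fun a ha e => Subtype.ext ?_)
    · rw [show ψ (torusSL a) = χ (torusSL (a : K)) by simp [ψ, mt a ha],
        root_torus h1 h2 (fun e => ha (Subtype.ext e))]
      exact hG_mem_diag (by norm_num) (fun e => ha (Subtype.ext e))
    · exact xg_eq_one (by norm_num) (by norm_num) (u1 t ▸ e)
    · have ha' : (a : K) ≠ 0 := fun e => ha (Subtype.ext e)
      rw [show ψ (torusSL a) = χ (torusSL (a : K)) by simp [ψ, mt a ha], root_torus h1 h2 ha'] at e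
      have e' : hdiag chevD4 (fun s => (a : K) ^ chevD4.pairing 14 s) = hdiag chevD4 (fun _ => (1 : K)) := by
        rw [← (D4.good : Good chevD4).coe_hG_eq (hn.symm ▸ (by norm_num)) ha', e, Units.val_one, hdiag_one]
      have h16 := congrFun (congrFun e' (Sum.inr ⟨18, by rw [hn]; norm_num⟩)) (Sum.inr ⟨18, by rw [hn]; norm_num⟩)
      simp only [hdiag, Matrix.diagonal_apply_eq, Sum.elim_inr] at h16
      rw [show chevD4.pairing 14 18 = -1 by decide +kernel] at h16
      simpa using h16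
  · rw [u1]
    exact Subgroup.mem_sup_left ((mem_simp_iff φ 0 _).2 ⟨fun _ => (t : K), fun _ _ => (hfix t).symm,
      ((pv_long fun _ => (t : K)).1).symm⟩)
  · rw [l1]
    exact Subgroup.mem_sup_right ((mem_opp_iff φ 0 _).2 ⟨fun _ => (t : K), fun _ _ => (hfix t).symm,
      ((pv_long fun _ => (t : K)).2).symm⟩)
  · intro y hy
    obtain ⟨a, ha, rfl⟩ := (mem_simp_iff φ 0 _).1 hy
    exact ⟨upperSL ⟨a 1, (ha 1 (by decide)).symm⟩, by rw [u1, (pv_long a).1]⟩
  · intro y hy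
    obtain ⟨a, ha, rfl⟩ := (mem_opp_iff φ 0 _).1 hy
    exact ⟨lowerSL ⟨a 1, (ha 1 (by decide)).symm⟩, by rw [l1, (pv_long a).2]⟩
  · refine ⟨upperSL 1 * lowerSL (-1) * upperSL 1, ?_⟩
    have h1' := sides_table.1 1
    simp at h1'
    rw [map_mul, map_mul, u1, l1, nn_eq, Jl_facts.1, List.map_singleton, List.prod_singleton, h1'.1, nG_eq,
      sides_table.2.1]
    simp

/-- The short rank one group is SL₂ over the field. -/
theorem rank_short (hcube : ∀ x, φ (φ (φ x)) = x) : ∃ ψ : SL(2, K) →* GL chevD4.Idx K,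
    Function.Injective ψ ∧ ψ.range = Lr φ 1 ∧ (tw3D4 φ).data.nn 1 ∈ ψ.range := by
  have hD : Good chevD4 := D4.good
  obtain ⟨a18, u18, l18⟩ := hD.exists_sl2_hom (F := K) (r := 18) (hn.symm ▸ (by norm_num))
  obtain ⟨a13, u13, l13⟩ := hD.exists_sl2_hom (F := K) (r := 13) (hn.symm ▸ (by norm_num))
  obtain ⟨a12, u12, l12⟩ := hD.exists_sl2_hom (F := K) (r := 12) (hn.symm ▸ (by norm_num))
  obtain ⟨-, -, n18, n13, n12⟩ := sides_table
  rw [n18] at l18; rw [n13] at l13; rw [n12] at l12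
  have hcomm : ∀ {S : List ℕ} {s t : ℕ}, (∀ r ∈ [s, chevD4.neg s], r ∈ S) →
      (∀ r ∈ S, ∀ x ∈ [t, chevD4.neg t], chevD4.commTerms r x = [] ∧ x ≠ chevD4.neg r ∧ r < 24 ∧ x < 24) →
      ∀ (α β : SL(2, K) →* GL chevD4.Idx K), (∀ v, α (upperSL v) = X s v) →
        (∀ v, α (lowerSL v) = X (chevD4.neg s) v) → (∀ v, β (upperSL v) = X t v) →
        (∀ v, β (lowerSL v) = X (chevD4.neg t) v) → ∀ g g', Commute (α g) (β g') := by
    intro S s t hS hchk α β a1 a2 b1 b2 g g'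
    have hc : ∀ r ∈ [s, chevD4.neg s], ∀ x ∈ [t, chevD4.neg t], ∀ v w : K, Commute (X r v) (X x w) :=
      fun r hr x hx v w => by
        obtain ⟨c1, c2, c3, c4⟩ := hchk r (hS r hr) x hx
        exact xg_commute c3 c4 c1 c2 v w
    have h1 : α.range ≤ Subgroup.centralizer (β.range : Set (GL chevD4.Idx K)) := by
      have key : ∀ r ∈ [s, chevD4.neg s], ∀ v : K,
          X r v ∈ Subgroup.centralizer (β.range : Set (GL chevD4.Idx K)) := fun r hr v => by
        rw [Subgroup.mem_centralizer_iff]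
        intro z hz
        have hle : β.range ≤ Subgroup.centralizer {X r v} := closure_le_of
          (fun w => Subgroup.mem_centralizer_singleton_iff.2 (by
            rw [b1]; exact (hc r hr t (by simp) v w).eq.symm))
          (fun w => Subgroup.mem_centralizer_singleton_iff.2 (by
            rw [b2]; exact (hc r hr _ (by simp) v w).eq.symm))
        exact Subgroup.mem_centralizer_singleton_iff.1 (hle hz)
      exact closure_le_of (fun v => a1 v ▸ key s (by simp) v) fun v => a2 v ▸ key _ (by simp) v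
    exact (Subgroup.mem_centralizer_iff.1 (h1 ⟨g, rfl⟩) _ ⟨g', rfl⟩).symm
  let m1 : SL(2, K) →* SL(2, K) := Matrix.SpecialLinearGroup.map (φ : K →+* K)
  let m2 : SL(2, K) →* SL(2, K) := m1.comp m1
  have c1 : ∀ g g', Commute (a18 g) (a13 g') := hcomm (S := [18, 5]) (by simp [n18])
    (fun r hr x hx => sides_comm.1 r hr x (by simp [n13] at hx ⊢; tauto)) a18 a13 u18 (n18.symm ▸ l18) u13
    (n13.symm ▸ l13)
  have c2 : ∀ g g', Commute (a18 g) (a12 g') := hcomm (S := [18, 5]) (by simp [n18])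
    (fun r hr x hx => sides_comm.1 r hr x (by simp [n12] at hx ⊢; tauto)) a18 a12 u18 (n18.symm ▸ l18) u12
    (n12.symm ▸ l12)
  have c3 : ∀ g g', Commute (a13 g) (a12 g') := hcomm (S := [13, 10]) (by simp [n13])
    (fun r hr x hx => sides_comm.2.1 r hr x (by simp [n12] at hx ⊢; tauto)) a13 a12 u13 (n13.symm ▸ l13) u12
    (n12.symm ▸ l12)
  let ψ : SL(2, K) →* GL chevD4.Idx K := MonoidHom.mk' (fun g => a18 g * (a13 (m1 g) * a12 (m2 g)))
    fun g g' => by
      rw [map_mul, map_mul m1, map_mul m2, map_mul a13, map_mul a12]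
      calc a18 g * a18 g' * (a13 (m1 g) * a13 (m1 g') * (a12 (m2 g) * a12 (m2 g')))
          = a18 g * (a18 g' * a13 (m1 g)) * (a13 (m1 g') * a12 (m2 g)) * a12 (m2 g') := by
            simp only [mul_assoc]
        _ = a18 g * (a13 (m1 g) * a18 g') * (a12 (m2 g) * a13 (m1 g')) * a12 (m2 g') := by
            rw [(c1 g' (m1 g)).eq, (c3 (m1 g') (m2 g)).eq]
        _ = a18 g * a13 (m1 g) * (a18 g' * a12 (m2 g)) * (a13 (m1 g') * a12 (m2 g')) := by
            simp only [mul_assoc]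
        _ = _ := by rw [(c2 g' (m2 g)).eq]; simp only [mul_assoc]
  have mu : ∀ t : K, m1 (upperSL t) = upperSL (φ t) := fun t => by
    ext i j; fin_cases i <;> fin_cases j <;> simp [coe_upperSL, m1]
  have ml : ∀ t : K, m1 (lowerSL t) = lowerSL (φ t) := fun t => by
    ext i j; fin_cases i <;> fin_cases j <;> simp [coe_lowerSL, m1]
  have mt : ∀ a : K, a ≠ 0 → m1 (torusSL a) = torusSL (φ a) := fun a ha => by
    ext i j
    rw [Matrix.SpecialLinearGroup.map_apply_coe, coe_torusSL ((map_ne_zero φ).2 ha), coe_torusSL ha]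
    fin_cases i <;> fin_cases j <;> simp
  have u1 : ∀ t, ψ (upperSL t) = X 18 t * (X 13 (φ t) * X 12 (φ (φ t))) := fun t => by
    simp [ψ, m2, mu, u18, u13, u12]
  have l1 : ∀ t, ψ (lowerSL t) = X 5 t * (X 10 (φ t) * X 11 (φ (φ t))) := fun t => by
    simp [ψ, m2, ml, l18, l13, l12]
  have hcompat : ∀ t : K, BNSetup.Compat BNSetup.graphD4 φ (orbD4.Jl 2 1)
      (fun k => if k = 0 then t else if k = 2 then φ t else φ (φ t)) := by
    intro t k hk
    rw [Jl_facts.2.1] at hk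
    simp only [List.mem_cons, List.not_mem_nil, or_false] at hk
    rcases hk with rfl | rfl | rfl
    · rfl
    · rfl
    · exact (hcube t).symm
  refine ⟨ψ, ?_, le_antisymm (closure_le_of (fun t => ?_) fun t => ?_) (sup_le ?_ ?_), ?_⟩
  · refine sl2_injective φ ψ (fun t => ?_) (fun t => ?_) (fun a ha => ?_) (fun t e => ?_) (fun a ha e => ?_)
    · rw [u1]
      exact Subgroup.mul_mem _ (xg_pos_mem (by norm_num) (by norm_num) _)
        (Subgroup.mul_mem _ (xg_pos_mem (by norm_num) (by norm_num) _) (xg_pos_mem (by norm_num) (by norm_num) _))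
    · rw [l1]
      exact Subgroup.mul_mem _ (xg_neg_mem (by norm_num) _)
        (Subgroup.mul_mem _ (xg_neg_mem (by norm_num) _) (xg_neg_mem (by norm_num) _))
    · have h1 := (map_ne_zero φ).2 ha
      have h2 := (map_ne_zero φ).2 h1
      show a18 (torusSL a) * (a13 (m1 (torusSL a)) * a12 (m1 (m1 (torusSL a)))) ∈ _
      rw [mt a ha, mt _ h1, root_torus u18 (n18.symm ▸ l18) ha, root_torus u13 (n13.symm ▸ l13) h1,
        root_torus u12 (n12.symm ▸ l12) h2]
      exact Subgroup.mul_mem _ (hG_mem_diag (by norm_num) ha)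
        (Subgroup.mul_mem _ (hG_mem_diag (by norm_num) h1) (hG_mem_diag (by norm_num) h2))
    · have e' : pr [18, 13, 12] (fun r => if r = 18 then t else if r = 13 then φ t else φ (φ t)) =
          pr [18, 13, 12] (0 : ℕ → K) := by
        rw [pr_zero, ← e, u1]; simp
      obtain ⟨-, h2, h3, h4⟩ := rootsAt_check 0
      have := pr_inj [18, 13, 12] (fun r hr => ⟨(h2 r hr).1, (h2 r hr).2.1⟩) h3
        (fun a ha b hb => (h4 a ha b hb).2.1) _ _ e' 18 (by simp)
      simpa using this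
    · have h1 := (map_ne_zero φ).2 ha
      have h2 := (map_ne_zero φ).2 h1
      replace e : a18 (torusSL a) * (a13 (m1 (torusSL a)) * a12 (m1 (m1 (torusSL a)))) = 1 := e
      rw [mt a ha, mt _ h1, root_torus u18 (n18.symm ▸ l18) ha, root_torus u13 (n13.symm ▸ l13) h1,
        root_torus u12 (n12.symm ▸ l12) h2] at e
      have e' := congrArg (fun g : GL chevD4.Idx K => (g : Matrix chevD4.Idx chevD4.Idx K)) e
      simp only [Units.val_mul, Units.val_one, hD.coe_hG_eq (hn.symm ▸ (by norm_num : 18 < 24)) ha,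
        hD.coe_hG_eq (hn.symm ▸ (by norm_num : 13 < 24)) h1,
        hD.coe_hG_eq (hn.symm ▸ (by norm_num : 12 < 24)) h2, hdiag_mul] at e'
      rw [← hdiag_one chevD4] at e'
      have g18 := congrFun (congrFun e' (Sum.inr ⟨18, by rw [hn]; norm_num⟩)) (Sum.inr ⟨18, by rw [hn]; norm_num⟩)
      have g14 := congrFun (congrFun e' (Sum.inr ⟨14, by rw [hn]; norm_num⟩)) (Sum.inr ⟨14, by rw [hn]; norm_num⟩)
      obtain ⟨p1, p2, p3, p4, p5, p6⟩ : chevD4.pairing 18 18 = 2 ∧ chevD4.pairing 13 18 = 0 ∧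
          chevD4.pairing 12 18 = 0 ∧ chevD4.pairing 18 14 = -1 ∧ chevD4.pairing 13 14 = -1 ∧
          chevD4.pairing 12 14 = -1 := by decide +kernel
      simp only [hdiag, Matrix.diagonal_apply_eq, Sum.elim_inr] at g18 g14
      rw [p1, p2, p3] at g18
      rw [p4, p5, p6] at g14
      simp at g18
      simp at g14
      have hsq : a * a = 1 := by rcases g18 with rfl | rfl <;> simp
      have hfix : φ a = a := by
        rcases g18 with rfl | rfl <;> simp
      rw [hfix, hfix] at g14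
      field_simp at g14
      linear_combination (-a) * hsq + (-1 : K) * g14
  · rw [u1]
    exact Subgroup.mem_sup_left ((mem_simp_iff φ 1 _).2 ⟨_, hcompat t, by rw [(pv_short _).1]; simp⟩)
  · rw [l1]
    exact Subgroup.mem_sup_right ((mem_opp_iff φ 1 _).2 ⟨_, hcompat t, by rw [(pv_short _).2]; simp⟩)
  · intro y hy
    obtain ⟨a, ha, rfl⟩ := (mem_simp_iff φ 1 _).1 hy
    have h2 : a 2 = φ (a 0) := ha 0 (by decide)
    have h3 : a 3 = φ (a 2) := ha 2 (by decide)
    exact ⟨upperSL (a 0), by rw [u1, (pv_short a).1, h3, h2]⟩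
  · intro y hy
    obtain ⟨a, ha, rfl⟩ := (mem_opp_iff φ 1 _).1 hy
    have h2 : a 2 = φ (a 0) := ha 0 (by decide)
    have h3 : a 3 = φ (a 2) := ha 2 (by decide)
    exact ⟨lowerSL (a 0), by rw [l1, (pv_short a).2, h3, h2]⟩
  · refine ⟨flipSL, ?_⟩
    have hm : m1 flipSL = flipSL := by
      ext i j; fin_cases i <;> fin_cases j <;> simp [coe_flipSL, m1]
    show a18 flipSL * (a13 (m1 flipSL) * a12 (m1 (m1 flipSL))) = _
    rw [hm, hm, root_flip u18 (n18.symm ▸ l18), root_flip u13 (n13.symm ▸ l13), root_flip u12 (n12.symm ▸ l12),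
      nn_eq, Jl_facts.2.1]
    simp [Jl_facts.2.2.1, Jl_facts.2.2.2.2.1, Jl_facts.2.2.2.2.2.1]

/-- The two rank one groups share no torus element. -/
theorem rank_inter : Lr φ 0 ⊓ Lr φ 1 ⊓ (tw3D4 φ).data.H = ⊥ := by
  rw [eq_bot_iff]
  rintro g ⟨⟨h0, h1⟩, hH⟩
  have hdiag' : g ∈ chevD4.diagonalSubgroup K := hH.1
  rw [BNSetup.diagonal_eq_range D4.good] at hdiag'
  obtain ⟨τ, rfl⟩ := hdiag'
  have l0 : ∀ s ∈ [17, 20, 21], Lr φ 0 ≤ Subgroup.centralizer {X s (1 : K)} := by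
    intro s hs
    have c : ∀ r ∈ [14, 9], ∀ v : K, X r v ∈ Subgroup.centralizer {X s (1 : K)} := fun r hr v => by
      obtain ⟨c1, c2, c3, c4⟩ := sides_comm.2.2.1 r hr s hs
      exact Subgroup.mem_centralizer_singleton_iff.2 (xg_commute c3 c4 c1 c2 v 1).eq
    refine sup_le (fun y hy => ?_) (fun y hy => ?_)
    · obtain ⟨a, -, rfl⟩ := (mem_simp_iff φ 0 _).1 hy
      rw [(pv_long a).1]; exact c 14 (by simp) _
    · obtain ⟨a, -, rfl⟩ := (mem_opp_iff φ 0 _).1 hy
      rw [(pv_long a).2]; exact c 9 (by simp) _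
  have l1 : Lr φ 1 ≤ Subgroup.centralizer {X 23 (1 : K)} := by
    have c : ∀ r ∈ [18, 13, 12, 5, 10, 11], ∀ v : K, X r v ∈ Subgroup.centralizer {X 23 (1 : K)} :=
      fun r hr v => by
        obtain ⟨c1, c2, c3, c4⟩ := sides_comm.2.2.2 r hr 23 (by simp)
        exact Subgroup.mem_centralizer_singleton_iff.2 (xg_commute c3 c4 c1 c2 v 1).eq
    refine sup_le (fun y hy => ?_) (fun y hy => ?_)
    · obtain ⟨a, -, rfl⟩ := (mem_simp_iff φ 1 _).1 hy
      rw [(pv_short a).1]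
      exact Subgroup.mul_mem _ (c 18 (by simp) _) (Subgroup.mul_mem _ (c 13 (by simp) _) (c 12 (by simp) _))
    · obtain ⟨a, -, rfl⟩ := (mem_opp_iff φ 1 _).1 hy
      rw [(pv_short a).2]
      exact Subgroup.mul_mem _ (c 5 (by simp) _) (Subgroup.mul_mem _ (c 10 (by simp) _) (c 11 (by simp) _))
  have hchar : ∀ s, s < 24 → 12 ≤ s → Commute (torusHom K chevD4 τ) (X s 1) →
      torusChar chevD4 τ s = 1 := fun s hs hs' hc => by
    have e := conj_xg τ hs (1 : K)
    rw [hc.eq, mul_inv_cancel_right, mul_one] at e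
    exact Units.ext (xg_inj hs hs' e).symm
  have e17 := hchar 17 (by norm_num) (by norm_num)
    (Subgroup.mem_centralizer_singleton_iff.1 (l0 17 (by simp) h0))
  have e20 := hchar 20 (by norm_num) (by norm_num)
    (Subgroup.mem_centralizer_singleton_iff.1 (l0 20 (by simp) h0))
  have e21 := hchar 21 (by norm_num) (by norm_num)
    (Subgroup.mem_centralizer_singleton_iff.1 (l0 21 (by simp) h0))
  have e23 := hchar 23 (by norm_num) (by norm_num)
    (Subgroup.mem_centralizer_singleton_iff.1 (l1 h1))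
  -- the combinations giving the simple roots
  obtain ⟨w18, w14, w13, w12⟩ : (∀ i : Fin 4, chevD4.cartan i.val 18 =
      chevD4.cartan i.val 20 + chevD4.cartan i.val 21 - chevD4.cartan i.val 23) ∧
    (∀ i : Fin 4, chevD4.cartan i.val 14 = 2 * chevD4.cartan i.val 23 -
      (chevD4.cartan i.val 17 + chevD4.cartan i.val 20 + chevD4.cartan i.val 21)) ∧
    (∀ i : Fin 4, chevD4.cartan i.val 13 =
      chevD4.cartan i.val 17 + chevD4.cartan i.val 21 - chevD4.cartan i.val 23) ∧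
    (∀ i : Fin 4, chevD4.cartan i.val 12 =
      chevD4.cartan i.val 17 + chevD4.cartan i.val 20 - chevD4.cartan i.val 23) := by decide +kernel
  refine Subgroup.mem_bot.2 (MonoidHom.mem_ker.1 ((BNSetup.mem_ker_torusHom D4.good).2 fun j => ?_))
  have hj := (sides_table.1 j).1
  rw [hj]
  obtain ⟨c, hc⟩ : ∃ c : Fin 4 → Kˣ, c = τ := ⟨τ, rfl⟩
  subst hc
  show ∏ i : Fin 4, c i ^ chevD4.cartan i.val _ = 1
  have t17 : ∏ i : Fin 4, c i ^ chevD4.cartan i.val 17 = 1 := e17
  have t20 : ∏ i : Fin 4, c i ^ chevD4.cartan i.val 20 = 1 := e20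
  have t21 : ∏ i : Fin 4, c i ^ chevD4.cartan i.val 21 = 1 := e21
  have t23 : ∏ i : Fin 4, c i ^ chevD4.cartan i.val 23 = 1 := e23
  have h2 : ∏ i : Fin 4, c i ^ (2 * chevD4.cartan i.val 23) = 1 := by
    rw [Finset.prod_congr rfl fun i _ => show c i ^ (2 * chevD4.cartan i.val 23) =
      c i ^ chevD4.cartan i.val 23 * c i ^ chevD4.cartan i.val 23 by rw [← zpow_add, two_mul],
      Finset.prod_mul_distrib, t23, one_mul]
  fin_cases j <;> simp only [List.getD_cons_zero, List.getD_cons_succ] <;>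
    simp only [w18, w14, w13, w12, zpow_sub, zpow_add, Finset.prod_mul_distrib, Finset.prod_inv_distrib,
      t17, t20, t21, t23, h2, one_mul, inv_one]

end Cfsg.Agent.D4Stem
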