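/-
³D₄(2): the class of the long root `3a + b` lifts.
-/
import Cfsg.Agent.Lib.Chev.D4Stem.Comm

set_option autoImplicit false

namespace Cfsg.Agent.D4Stem

open Cfsg.Lie Cfsg.Agent.Chev Cfsg.Agent.Chev.Invol
open Cfsg.Agent.RootBN (Data)
open Cfsg.Agent.Chev.BNSetup (tw3D4 orbD4 torusHom torusChar facts_chevD4)
open Cfsg.Agent.D4Invol (hn hT hax eA eC eD eA_mem exists_eA)
open Cfsg.Agent.Schur.ChainLift
open Cfsg.Agent.Schur.RootLift (IsLift V)
open scoped commutatorElement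

/-! ### Commutators modulo a central subgroup -/

section Step

variable {G : Type*} [Group G]

/-- `y` lies in `d N`. -/
def Mod (N : Subgroup G) (y d : G) : Prop := ∃ n ∈ N, y = d * n

/-- `g` centralises `N` and moves `D` only by `N`. -/
def Quasi (N D : Subgroup G) (g : G) : Prop :=
  (∀ n ∈ N, Commute g n) ∧ ∀ d ∈ D, ∃ n ∈ N, g * d * g⁻¹ = d * n

variable {N D : Subgroup G} (hND : ∀ n ∈ N, ∀ d ∈ D, Commute n d)
include hND

theorem mod_right {g h h' d d' : G} (hd' : d' ∈ D) (hh : Quasi N D h) (e : Mod N ⁅g, h⁆ d)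
    (e' : Mod N ⁅g, h'⁆ d') : Mod N ⁅g, h * h'⁆ (d * d') := by
  obtain ⟨n, hn, e⟩ := e
  obtain ⟨n', hn', e'⟩ := e'
  obtain ⟨n'', hn'', e''⟩ := hh.2 d' hd'
  refine ⟨n * n'' * n', N.mul_mem (N.mul_mem hn hn'') hn', ?_⟩
  calc ⁅g, h * h'⁆ = ⁅g, h⁆ * (h * d' * h⁻¹ * (h * n' * h⁻¹)) := by
        rw [show ⁅g, h * h'⁆ = ⁅g, h⁆ * (h * ⁅g, h'⁆ * h⁻¹) by simp only [commutatorElement_def]; group, e']
        group
    _ = d * (n * d') * (n'' * n') := by
        rw [e, e'', (hh.1 n' hn').eq, mul_inv_cancel_right]; simp only [mul_assoc]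
    _ = _ := by rw [(hND n hn d' hd').eq]; simp only [mul_assoc]

theorem mod_left {g g' h d d' : G} (hd : d ∈ D) (hd' : d' ∈ D) (hDc : Commute d d') (hg : Quasi N D g)
    (e : Mod N ⁅g, h⁆ d) (e' : Mod N ⁅g', h⁆ d') : Mod N ⁅g * g', h⁆ (d * d') := by
  obtain ⟨n, hn, e⟩ := e
  obtain ⟨n', hn', e'⟩ := e'
  obtain ⟨n'', hn'', e''⟩ := hg.2 d' hd'
  refine ⟨n'' * n' * n, N.mul_mem (N.mul_mem hn'' hn') hn, ?_⟩
  calc ⁅g * g', h⁆ = g * d' * g⁻¹ * (g * n' * g⁻¹) * ⁅g, h⁆ := by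
        rw [show ⁅g * g', h⁆ = g * ⁅g', h⁆ * g⁻¹ * ⁅g, h⁆ by simp only [commutatorElement_def]; group, e']
        group
    _ = d' * ((n'' * n') * d) * n := by
        rw [e, e'', (hg.1 n' hn').eq, mul_inv_cancel_right]; simp only [mul_assoc]
    _ = _ := by
        rw [(hND _ (N.mul_mem hn'' hn') d hd).eq, hDc.eq]
        simp only [mul_assoc]

omit hND in
theorem mod_of_eq {y d : G} (e : y = d) : Mod N y d := ⟨1, N.one_mem, by rw [e, mul_one]⟩

omit hND in
theorem mod_one {g h : G} (e : Commute g h) : Mod N ⁅g, h⁆ (1 : G) :=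
  mod_of_eq (commutatorElement_eq_one_iff_commute.2 e)

end Step

variable {K : Type*} [Field K]

/-- The root element. -/
local notation "X" => xg chevD4 K

/-- The subgroup of the two highest roots. -/
abbrev NN (K : Type*) [Field K] : Subgroup (GL chevD4.Idx K) := gen chevD4 K [22, 23]

/-- The subgroup of the five highest roots. -/
abbrev DD (K : Type*) [Field K] : Subgroup (GL chevD4.Idx K) := gen chevD4 K [17, 20, 21, 22, 23]

theorem quasi_table : (∀ r ∈ [18, 13, 12, 19, 16, 15, 17, 20, 21, 22, 23], ∀ s ∈ [22, 23],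
      chevD4.commTerms r s = [] ∧ s ≠ chevD4.neg r ∧ r < 24 ∧ s < 24) ∧
    (∀ r ∈ [18, 13, 12, 19, 16, 15], ∀ s ∈ [17, 20, 21, 22, 23], s ≠ r ∧ s ≠ chevD4.neg r ∧ r < 24 ∧ s < 24 ∧
      ∀ x ∈ chevD4.commTerms r s, x.1 ∈ [22, 23]) ∧
    (∀ r ∈ [17, 20, 21], ∀ s ∈ [17, 20, 21], chevD4.commTerms r s = [] ∧ s ≠ chevD4.neg r ∧ r < 24 ∧ s < 24) := by
  decide +kernel

set_option synthInstance.maxSize 2000 in
theorem basic_table :
    chevD4.commTerms 18 16 = [(21, -1, 1, 1)] ∧ chevD4.commTerms 18 15 = [(20, -1, 1, 1)] ∧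
    chevD4.commTerms 13 19 = [(21, 1, 1, 1)] ∧ chevD4.commTerms 13 15 = [(17, 1, 1, 1)] ∧
    chevD4.commTerms 12 19 = [(20, 1, 1, 1)] ∧ chevD4.commTerms 12 16 = [(17, 1, 1, 1)] := by decide +kernel

theorem basic_table' : (∀ r ∈ [18, 13, 12], ∀ s ∈ [19, 16, 15], s ≠ r ∧ s ≠ chevD4.neg r) ∧
    chevD4.commTerms 18 19 = [] ∧ chevD4.commTerms 13 16 = [] ∧ chevD4.commTerms 12 15 = [] := by decide +kernel

theorem commute_gen {g : GL chevD4.Idx K} {S : List ℕ} (h : ∀ s ∈ S, ∀ u, Commute g (X s u)) {n : GL chevD4.Idx K}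
    (hn' : n ∈ gen chevD4 K S) : Commute g n :=
  (Subgroup.mem_centralizer_singleton_iff.1
    ((show gen chevD4 K S ≤ Subgroup.centralizer {g} from gen_le fun s hs u =>
      Subgroup.mem_centralizer_singleton_iff.2 (h s hs u).eq.symm) hn')).symm

theorem commute_NN {r : ℕ} (hr : r ∈ [18, 13, 12, 19, 16, 15, 17, 20, 21, 22, 23]) (t : K) :
    ∀ n ∈ NN K, Commute (X r t) n := fun n hn' => commute_gen (fun s hs u => by
      obtain ⟨h1, h2, h3, h4⟩ := quasi_table.1 r hr s hs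
      exact xg_commute h3 h4 h1 h2 t u) hn'

theorem NN_DD : ∀ n ∈ NN K, ∀ d ∈ DD K, Commute n d := fun n hn' d hd =>
  (commute_gen (g := n) (fun r hr t => (commute_NN (by
    simp only [List.mem_cons, List.not_mem_nil, or_false] at hr ⊢; tauto) t n hn').symm) hd)

theorem quasi {r : ℕ} (hr : r ∈ [18, 13, 12, 19, 16, 15]) (t : K) : Quasi (NN K) (DD K) (X r t) := by
  have hD : Good chevD4 := D4.good
  refine ⟨commute_NN (by simp only [List.mem_cons, List.not_mem_nil, or_false] at hr ⊢; tauto) t, fun d hd => ?_⟩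
  let L : Subgroup (GL chevD4.Idx K) :=
    { carrier := {d | d ∈ DD K ∧ ∃ n ∈ NN K, X r t * d * (X r t)⁻¹ = d * n}
      one_mem' := ⟨Subgroup.one_mem _, 1, Subgroup.one_mem _, by group⟩
      mul_mem' := by
        rintro a b ⟨ha, n, hn', ea⟩ ⟨hb, n', hn'', eb⟩
        refine ⟨Subgroup.mul_mem _ ha hb, n * n', Subgroup.mul_mem _ hn' hn'', ?_⟩
        calc X r t * (a * b) * (X r t)⁻¹ = X r t * a * (X r t)⁻¹ * (X r t * b * (X r t)⁻¹) := by group
          _ = a * (n * b) * n' := by rw [ea, eb]; simp only [mul_assoc]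
          _ = _ := by rw [(NN_DD n hn' b hb).eq]; simp only [mul_assoc]
      inv_mem' := by
        rintro a ⟨ha, n, hn', ea⟩
        refine ⟨Subgroup.inv_mem _ ha, n⁻¹, Subgroup.inv_mem _ hn', ?_⟩
        calc X r t * a⁻¹ * (X r t)⁻¹ = (X r t * a * (X r t)⁻¹)⁻¹ := by group
          _ = n⁻¹ * a⁻¹ := by rw [ea, mul_inv_rev]
          _ = _ := ((NN_DD _ (Subgroup.inv_mem _ hn') _ (Subgroup.inv_mem _ ha))).eq }
  refine ((show DD K ≤ L from gen_le fun s hs u => ⟨xg_mem_gen hs u, ?_⟩) hd).2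
  obtain ⟨h1, h2, h3, h4, h5⟩ := quasi_table.2.1 r hr s hs
  have hr' : r < chevD4.nroots := hn.symm ▸ h3
  have hs' : s < chevD4.nroots := hn.symm ▸ h4
  have e := hD.xg_commutator hr' hs' h1 h2 (-t) (-u)
  rw [hD.xg_inv, hD.xg_inv, _root_.neg_neg, _root_.neg_neg] at e
  have hmem : wordG chevD4 K (chevD4.commWord K r s (-t) (-u)) ∈ NN K := by
    refine Subgroup.list_prod_mem _ fun x hx => ?_
    simp only [ChevalleyDatum.commWord, List.map_map, List.mem_map, Function.comp_apply] at hx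
    obtain ⟨y, hy, rfl⟩ := hx
    exact xg_mem_gen (h5 y hy) _
  set W := wordG chevD4 K (chevD4.commWord K r s (-t) (-u)) with hW
  refine ⟨W⁻¹, Subgroup.inv_mem _ hmem, ?_⟩
  have e' : X r t * X s u * (X r t)⁻¹ = W⁻¹ * X s u := by
    rw [← e]
    simp only [mul_inv_rev, hD.xg_inv, _root_.neg_neg, mul_assoc, hD.xg_add, neg_add_cancel, hD.xg_zero, mul_one]
  rw [e', (NN_DD _ (Subgroup.inv_mem _ hmem) _ (xg_mem_gen hs u)).eq]

variable [CharP K 2] {φ : K ≃+* K}

theorem sgn (c : ℤ) (hc : c = 1 ∨ c = -1) : (c : K) = 1 := by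
  rcases hc with rfl | rfl <;> simp [CharTwo.neg_eq]

/-- The commutator of the elements of `a` and `a + b`, modulo the two highest roots. -/
theorem comm_eA_eC (u : K) : Mod (NN K) ⁅eA φ u, eC φ 1⁆
    (X 17 (φ u + φ (φ u)) * (X 20 (u + φ (φ u)) * X 21 (u + φ u))) := by
  have hD : Good chevD4 := D4.good
  obtain ⟨b1, b2, b3, b4, b5, b6⟩ := basic_table
  obtain ⟨hne, z1, z2, z3⟩ := basic_table'
  have D5 : ∀ s ∈ [17, 20, 21, 22, 23], ∀ v, X s v ∈ DD K := fun s hs v => xg_mem_gen hs v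
  have cD : ∀ {a b : ℕ}, a ∈ [17, 20, 21] → b ∈ [17, 20, 21] → ∀ v w : K, Commute (X a v) (X b w) :=
    fun ha hb v w => by
      obtain ⟨h1, h2, h3, h4⟩ := quasi_table.2.2 _ ha _ hb
      exact xg_commute h3 h4 h1 h2 v w
  have cw : ∀ {r s k : ℕ} {c : ℤ}, r ∈ [18, 13, 12] → s ∈ [19, 16, 15] → c = 1 ∨ c = -1 →
      chevD4.commTerms r s = [(k, c, 1, 1)] → ∀ v : K, ⁅X r v, X s 1⁆ = X k v := fun hr hs hc e v => by
    have hlt : ∀ x, x ∈ [18, 13, 12] ∨ x ∈ [19, 16, 15] → x < 24 := by simp; omega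
    rw [comm_word (hlt _ (Or.inl hr)) (hlt _ (Or.inr hs)) (hne _ hr _ hs).1 (hne _ hr _ hs).2 e, sgn _ hc,
      one_mul, mul_one]
  have c0 : ∀ {r s : ℕ}, r ∈ [18, 13, 12] → s ∈ [19, 16, 15] → chevD4.commTerms r s = [] →
      ∀ v : K, Commute (X r v) (X s 1) := fun hr hs e v => by
    have hlt : ∀ x, x ∈ [18, 13, 12] ∨ x ∈ [19, 16, 15] → x < 24 := by simp; omega
    exact xg_commute (hlt _ (Or.inl hr)) (hlt _ (Or.inr hs)) e (hne _ hr _ hs).2 v 1
  have eC1 : eC φ (1 : K) = X 19 1 * (X 16 1 * X 15 1) := by simp [eC]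
  rw [eA, eC1]
  have h18 : Mod (NN K) ⁅X 18 u, X 19 1 * (X 16 1 * X 15 1)⁆ (X 20 u * X 21 u) := by
    have h := mod_right NN_DD (h := X 19 1) (Subgroup.mul_mem _ (D5 21 (by simp) u) (D5 20 (by simp) u))
      (quasi (by simp) 1) (mod_one (c0 (by simp) (by simp) z1 u))
      (mod_right NN_DD (h := X 16 1) (D5 20 (by simp) u) (quasi (by simp) 1)
        (mod_of_eq (cw (by simp) (by simp) (Or.inr rfl) b1 u))
        (mod_of_eq (cw (by simp) (by simp) (Or.inr rfl) b2 u)))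
    rwa [one_mul, (cD (by simp) (by simp) u u).eq] at h
  have h13 : Mod (NN K) ⁅X 13 (φ u), X 19 1 * (X 16 1 * X 15 1)⁆ (X 17 (φ u) * X 21 (φ u)) := by
    have h := mod_right NN_DD (h := X 19 1) (Subgroup.mul_mem _ (Subgroup.one_mem _) (D5 17 (by simp) (φ u)))
      (quasi (by simp) 1) (mod_of_eq (cw (by simp) (by simp) (Or.inl rfl) b3 (φ u)))
      (mod_right NN_DD (h := X 16 1) (D5 17 (by simp) (φ u)) (quasi (by simp) 1)
        (mod_one (c0 (by simp) (by simp) z2 (φ u)))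
        (mod_of_eq (cw (by simp) (by simp) (Or.inl rfl) b4 (φ u))))
    rwa [one_mul, (cD (by simp) (by simp) (φ u) (φ u)).eq] at h
  have h12 : Mod (NN K) ⁅X 12 (φ (φ u)), X 19 1 * (X 16 1 * X 15 1)⁆
      (X 17 (φ (φ u)) * X 20 (φ (φ u))) := by
    have h := mod_right NN_DD (h := X 19 1) (Subgroup.mul_mem _ (D5 17 (by simp) (φ (φ u))) (Subgroup.one_mem _))
      (quasi (by simp) 1) (mod_of_eq (cw (by simp) (by simp) (Or.inl rfl) b5 (φ (φ u))))
      (mod_right NN_DD (h := X 16 1) (Subgroup.one_mem _) (quasi (by simp) 1)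
        (mod_of_eq (cw (by simp) (by simp) (Or.inl rfl) b6 (φ (φ u))))
        (mod_one (c0 (by simp) (by simp) z3 (φ (φ u)))))
    rwa [mul_one, (cD (by simp) (by simp) (φ (φ u)) (φ (φ u))).eq] at h
  have k : ∀ {a b c d : ℕ}, a ∈ [17, 20, 21] → b ∈ [17, 20, 21] → c ∈ [17, 20, 21] → d ∈ [17, 20, 21] →
      ∀ p q v w : K, Commute (X a p * X b q) (X c v * X d w) := fun ha hb hc hd p q v w =>
    ((cD ha hc p v).mul_right (cD ha hd p w)).mul_left ((cD hb hc q v).mul_right (cD hb hd q w))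
  have m2 := mod_left NN_DD (Subgroup.mul_mem _ (D5 17 (by simp) _) (D5 21 (by simp) _))
    (Subgroup.mul_mem _ (D5 17 (by simp) _) (D5 20 (by simp) _))
    (k (by simp) (by simp) (by simp) (by simp) _ _ _ _) (quasi (by simp) (φ u)) h13 h12
  have m3 := mod_left NN_DD (Subgroup.mul_mem _ (D5 20 (by simp) _) (D5 21 (by simp) _))
    (Subgroup.mul_mem _ (Subgroup.mul_mem _ (D5 17 (by simp) _) (D5 21 (by simp) _))
      (Subgroup.mul_mem _ (D5 17 (by simp) _) (D5 20 (by simp) _)))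
    ((k (by simp) (by simp) (by simp) (by simp) _ _ _ _).mul_right
      (k (by simp) (by simp) (by simp) (by simp) _ _ _ _)) (quasi (by simp) u) h18 m2
  convert m3 using 1
  have c1 := (cD (a := 21) (b := 17) (by simp) (by simp) (φ u) (φ (φ u))).eq
  have c2 := (cD (a := 21) (b := 20) (by simp) (by simp) (φ u) (φ (φ u))).eq
  have c3 := (cD (a := 20) (b := 17) (by simp) (by simp) u (φ u + φ (φ u))).eq
  have c4 := (cD (a := 21) (b := 17) (by simp) (by simp) u (φ u + φ (φ u))).eq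
  have c5 := (cD (a := 21) (b := 20) (by simp) (by simp) u (φ (φ u))).eq
  symm
  calc X 20 u * X 21 u * (X 17 (φ u) * X 21 (φ u) * (X 17 (φ (φ u)) * X 20 (φ (φ u))))
      = X 20 u * X 21 u * (X 17 (φ u) * (X 21 (φ u) * X 17 (φ (φ u))) * X 20 (φ (φ u))) := by
        simp only [mul_assoc]
    _ = X 20 u * X 21 u * (X 17 (φ u) * X 17 (φ (φ u)) * (X 21 (φ u) * X 20 (φ (φ u)))) := by
        rw [c1]; simp only [mul_assoc]
    _ = X 20 u * (X 21 u * X 17 (φ u + φ (φ u))) * (X 20 (φ (φ u)) * X 21 (φ u)) := by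
        rw [hD.xg_add, c2]; simp only [mul_assoc]
    _ = X 20 u * X 17 (φ u + φ (φ u)) * (X 21 u * X 20 (φ (φ u))) * X 21 (φ u) := by
        rw [c4]; simp only [mul_assoc]
    _ = X 17 (φ u + φ (φ u)) * (X 20 u * X 20 (φ (φ u))) * (X 21 u * X 21 (φ u)) := by
        rw [c3, c5]; simp only [mul_assoc]
    _ = _ := by rw [hD.xg_add, hD.xg_add, mul_assoc]

variable [Fintype K] (h : Hyp φ 2)
include h

theorem eC_mem (t : K) : eC φ t ∈ Xp φ 4 := by
  have h1 := D4Invol.nn_conj_X' φ 0 (eA_mem φ h.cube t)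
  rw [show orbD4.reflF 12 2 0 6 = pos 4 by decide +kernel, D4Invol.nn_conj_eA] at h1
  exact h1

theorem eD_mem (t : K) : eD φ t ∈ Xp φ 2 := by
  have h1 := D4Invol.nn_conj_X' φ 1 (eC_mem h t)
  rw [show orbD4.reflF 12 2 1 (pos 4) = pos 2 by decide +kernel, D4Invol.nn_conj_eC] at h1
  exact h1

omit h [Fintype K] [CharP K 2] in
/-- The middle part of an interval element is determined modulo the two highest roots. -/
theorem middle_mod {y : GL chevD4.Idx K} {w : ℕ → K} (hy : y ∈ V (Xp φ) 1 4)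
    (he : Mod (NN K) y (pr (rootsAt 2) w)) :
    ∃ p ∈ Xp φ 1, ∃ d ∈ Xp φ 2, ∃ r ∈ Xp φ 3, y = p * (d * r) ∧ d = pr (rootsAt 2) w := by
  obtain ⟨p, hp, y', hy', rfl⟩ := Schur.RootLift.ordered (Xp φ) (show (1 : ℕ) < 4 by norm_num)
    (fun c h1 h2 => comm_p φ 1 c h1 (by omega)) hy
  obtain ⟨d, hd, r, hr, rfl⟩ := Schur.RootLift.ordered (Xp φ) (show (2 : ℕ) < 4 by norm_num)
    (fun c h1 h2 => comm_p φ 2 c h1 (by omega)) hy'
  rw [Schur.RootLift.V_split _ (by norm_num : (3 : ℕ) < 4), Schur.RootLift.V_empty _ le_rfl, sup_bot_eq] at hr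
  refine ⟨p, hp, d, hd, r, hr, rfl, ?_⟩
  obtain ⟨n, hn', e⟩ := he
  have hpN : ∀ i : Fin 6, rootsAt i.val ⊆ [22, 23] → ∀ z ∈ Xp φ i.val, z ∈ NN K := fun i hi z hz => by
    obtain ⟨t, rfl⟩ := exists_pr φ i hz.1
    exact Subgroup.list_prod_mem _ fun g hg => by
      obtain ⟨s, hs, rfl⟩ := List.mem_map.1 hg; exact xg_mem_gen (hi hs) _
  have hp' := hpN 1 (by decide) p hp
  have hr' := hpN 3 (by decide) r hr
  obtain ⟨v, rfl⟩ : ∃ v, d = pr (rootsAt 2) v := exists_pr φ (2 : Fin 6) hd.1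
  have hD2 : pr (rootsAt 2) v ∈ DD K := Subgroup.list_prod_mem _ fun g hg => by
    obtain ⟨s, hs, rfl⟩ := List.mem_map.1 hg; exact xg_mem_gen (by simp [rootsAt] at hs ⊢; omega) _
  have e' : (pr (rootsAt 2) w)⁻¹ * pr (rootsAt 2) v ∈ NN K := by
    rw [← mul_assoc, (NN_DD p hp' _ hD2).eq, mul_assoc] at e
    rw [show (pr (rootsAt 2) w)⁻¹ * pr (rootsAt 2) v = n * (p * r)⁻¹ by
      rw [eq_mul_inv_iff_mul_eq, mul_assoc, e, inv_mul_cancel_left]]
    exact Subgroup.mul_mem _ hn' (Subgroup.inv_mem _ (Subgroup.mul_mem _ hp' hr'))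
  obtain ⟨-, h2, -, h4⟩ := rootsAt_check 2
  have hc : ∀ a ∈ rootsAt 2, ∀ b ∈ rootsAt 2, chevD4.commTerms a b = [] ∧ b ≠ chevD4.neg a :=
    fun a ha b hb => ⟨(h4 a ha b hb).1, (h4 a ha b hb).2.2⟩
  replace h2 : ∀ r ∈ rootsAt 2, r < 24 ∧ 12 ≤ r ∧ orbD4.orbF 12 r = pos 2 := h2
  have hinv : (pr (rootsAt 2) w)⁻¹ = pr (rootsAt 2) (-w) := inv_eq_of_mul_eq_one_right (by
    rw [pr_mul _ (fun a ha => (h2 a ha).1) hc, add_neg_cancel, pr_zero])
  rw [hinv, pr_mul _ (fun a ha => (h2 a ha).1) hc] at e'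
  have hz : ∀ s ∈ [17, 20, 21], (-w + v) s = 0 := by
    have hcl : ∀ S ∈ [[22, 23], [21, 22, 23], [20, 21, 22, 23]],
        ∀ a ∈ S, ∀ b ∈ S, ∀ x ∈ D4.cert.comm a b, x.1 ∈ S := by decide +kernel
    have hS : ∀ S ∈ [[22, 23], [21, 22, 23], [20, 21, 22, 23]], ∀ s ∈ S,
        s < chevD4.nroots ∧ chevD4.nroots / 2 ≤ s := by decide +kernel
    have step : ∀ S ∈ [[22, 23], [21, 22, 23], [20, 21, 22, 23]], ∀ s, s < 24 → 12 ≤ s → s ∉ S →
        ∀ t : K, ∀ a ∈ gen chevD4 K S, X s t * a ∈ gen chevD4 K S → t = 0 := fun S hSm s h1 h2 h3 t a ha hm =>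
      eq_zero_of_mem_gen D4.valid facts_chevD4 (hS S hSm) (hcl S hSm) (hn.symm ▸ h1)
        (by rw [hn]; omega) h3 ((Subgroup.mul_mem_cancel_right _ ha).1 hm)
    rw [show rootsAt 2 = [17, 20, 21] from rfl] at e'
    simp only [pr_cons, pr_nil, mul_one] at e'
    have z17 := step [20, 21, 22, 23] (by simp) 17 (by norm_num) (by norm_num) (by simp) _ _
      (Subgroup.mul_mem _ (xg_mem_gen (by simp) _) (xg_mem_gen (by simp) _))
      (gen_mono (by simp) e')
    rw [z17, (D4.good : Good chevD4).xg_zero, one_mul] at e'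
    have z20 := step [21, 22, 23] (by simp) 20 (by norm_num) (by norm_num) (by simp) _ _
      (xg_mem_gen (by simp) _) (gen_mono (by simp) e')
    rw [z20, (D4.good : Good chevD4).xg_zero, one_mul] at e'
    have z21 := step [22, 23] (by simp) 21 (by norm_num) (by norm_num) (by simp) _ 1 (Subgroup.one_mem _)
      (by rwa [mul_one])
    intro s hs
    simp only [List.mem_cons, List.not_mem_nil, or_false] at hs
    rcases hs with rfl | rfl | rfl <;> assumption
  refine pr_congr fun s hs => ?_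
  have := hz s hs
  rw [Pi.add_apply, Pi.neg_apply, neg_add_eq_zero] at this
  exact this.symm

variable {E : Type*} [Group E] {π : E →* GL chevD4.Idx K} (hrange : (tw3D4 φ).Gt ≤ π.range)
  (hz : π.ker ≤ Subgroup.center E) (hexp : ∀ z ∈ π.ker, z ^ 2 = 1)
include hrange hz hexp

omit [CharP K 2] hrange hz hexp in
theorem norm_eq_one {c : K} (hc : c ≠ 0) : c * φ c * φ (φ c) = 1 := by
  classical
  have hN : φ (c * φ c * φ (φ c)) = c * φ c * φ (φ c) := by rw [map_mul, map_mul, h.cube]; ring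
  have hne : c * φ c * φ (φ c) ≠ 0 :=
    mul_ne_zero (mul_ne_zero hc ((map_ne_zero φ).2 hc)) ((map_ne_zero φ).2 ((map_ne_zero φ).2 hc))
  by_contra hne1
  have h3 : 3 ≤ Nat.card {x : K // φ x = x} := by
    rw [show 3 = Nat.card (Fin 3) by simp]
    refine Nat.card_le_card_of_injective (![⟨0, map_zero φ⟩, ⟨1, map_one φ⟩, ⟨_, hN⟩]) ?_
    intro i j e
    fin_cases i <;> fin_cases j <;> simp at e <;> first
      | rfl
      | exact absurd e hne
      | exact absurd e.symm hne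
      | exact absurd e hne1
      | exact absurd e.symm hne1
      | simp_all
  rw [h.fixed] at h3
  omega

omit [CharP K 2] hrange hz hexp in
theorem fixed_eq {x : K} (hx : φ x = x) : x = 0 ∨ x = 1 := by
  classical
  by_contra hc
  push Not at hc
  have h3 : 3 ≤ Nat.card {x : K // φ x = x} := by
    rw [show 3 = Nat.card (Fin 3) by simp]
    refine Nat.card_le_card_of_injective (![⟨0, map_zero φ⟩, ⟨1, map_one φ⟩, ⟨x, hx⟩]) ?_
    intro i j e
    fin_cases i <;> fin_cases j <;> simp at e <;> first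
      | rfl
      | exact absurd e hc.1
      | exact absurd e.symm hc.1
      | exact absurd e hc.2
      | exact absurd e.symm hc.2
  rw [h.fixed] at h3
  omega

/-- The lift: the commutators of preimages of the classes at 0 and 2. -/
theorem lift_one_two :
    IsLift π (Xp φ 1) (Subgroup.closure {c | ∃ a d, π a ∈ Xp φ 0 ∧ π d ∈ Xp φ 2 ∧ c = ⁅a, d⁆}) := by
  classical
  set T := Subgroup.closure {c | ∃ a d, π a ∈ Xp φ 0 ∧ π d ∈ Xp φ 2 ∧ c = ⁅a, d⁆} with hT'
  have hcall := fun {i j : Fin 6} hp => lift_comm_all h hrange hz (i := i) (j := j) hp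
  have hmap1 : ∀ a d, π a ∈ Xp φ 0 → π d ∈ Xp φ 2 → π ⁅a, d⁆ ∈ Xp φ 1 := fun a d ha hd => by
    have := comm_p φ 0 2 (by norm_num) (by norm_num) _ ha _ hd
    rw [Schur.RootLift.V_split _ (by norm_num), Schur.RootLift.V_empty _ le_rfl, sup_bot_eq] at this
    rwa [map_commutatorElement]
  refine ⟨le_antisymm ?_ ?_, eq_bot_iff.2 ?_⟩
  · rw [hT', MonoidHom.map_closure, Subgroup.closure_le]
    rintro _ ⟨_, ⟨a, d, ha, hd, rfl⟩, rfl⟩
    exact hmap1 a d ha hd
  · refine (one_generated h).trans ((Subgroup.closure_le _).2 ?_)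
    rintro _ ⟨x, hx, y, hy, rfl⟩
    obtain ⟨a, rfl⟩ := le_range hrange 0 hx
    obtain ⟨d, rfl⟩ := le_range hrange 2 hy
    exact ⟨⁅a, d⁆, Subgroup.subset_closure ⟨a, d, hx, hy, rfl⟩, map_commutatorElement π a d⟩
  choose A hA using fun t : K => le_range hrange 0 (eA_mem φ h.cube t : eA φ t ∈ Xp φ 0)
  choose D hD using fun t : K => le_range hrange 2 (eD_mem h t)
  have hA' : ∀ t, π (A t) ∈ Xp φ 0 := fun t => (hA t).symm ▸ eA_mem φ h.cube t
  have hD' : ∀ t, π (D t) ∈ Xp φ 2 := fun t => (hD t).symm ▸ eD_mem h t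
  have hb : ∀ u v, π ⁅A u, D v⁆ ∈ Xp φ 1 := fun u v => hmap1 _ _ (hA' u) (hD' v)
  have comm1 : ∀ u v x, π x ∈ Xp φ 0 ∨ π x ∈ Xp φ 2 ∨ π x ∈ Xp φ 1 → ⁅A u, D v⁆ * x = x * ⁅A u, D v⁆ := by
    intro u v x hx
    refine commutatorElement_eq_one_iff_mul_comm.1 ?_
    rcases hx with hx | hx | hx
    · exact symm_comm (hcall (i := 0) (j := 1) (by decide)) _ _ (hb u v) hx
    · exact hcall (i := 1) (j := 2) (by decide) _ _ (hb u v) hx
    · exact hcall (i := 1) (j := 1) (by decide) _ _ (hb u v) hx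
  have eA_add : ∀ t u : K, eA φ t * eA φ u = eA φ (t + u) := fun t u => by
    obtain ⟨-, h2, -, h4⟩ := rootsAt_check 0
    let f : K → ℕ → K := fun t r => if r = 18 then t else if r = 13 then φ t else φ (φ t)
    have e : ∀ t, eA φ t = pr (rootsAt 0) (f t) := fun t => by simp [eA, rootsAt, f]
    rw [e, e, e, pr_mul (rootsAt 0) (fun r hr => (h2 r hr).1)
      (fun r hr s hs => ⟨(h4 r hr s hs).1, (h4 r hr s hs).2.2⟩)]
    exact pr_congr fun r _ => by simp only [f, Pi.add_apply]; split_ifs <;> simp [map_add]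
  let fD : K → ℕ → K := fun t r => if r = 17 then t else if r = 20 then φ t else φ (φ t)
  have eD_pr : ∀ t, eD φ t = pr (rootsAt 2) (fD t) := fun t => by simp [eD, rootsAt, fD]
  have eD_add : ∀ t u : K, eD φ t * eD φ u = eD φ (t + u) := fun t u => by
    obtain ⟨-, h2, -, h4⟩ := rootsAt_check 2
    rw [eD_pr, eD_pr, eD_pr, pr_mul (rootsAt 2) (fun r hr => (h2 r hr).1)
      (fun r hr s hs => ⟨(h4 r hr s hs).1, (h4 r hr s hs).2.2⟩)]
    exact pr_congr fun r _ => by simp only [fD, Pi.add_apply]; split_ifs <;> simp [map_add]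
  have addl : ∀ u u' v, ⁅A (u + u'), D v⁆ = ⁅A u, D v⁆ * ⁅A u', D v⁆ := fun u u' v => by
    rw [Schur.commutatorElement_congr hz (show π (A (u + u')) = π (A u * A u') by
      rw [map_mul, hA, hA, hA, eA_add]) rfl]
    calc ⁅A u * A u', D v⁆ = A u * ⁅A u', D v⁆ * (A u)⁻¹ * ⁅A u, D v⁆ := by
          simp only [commutatorElement_def]; group
      _ = _ := by rw [← comm1 u' v (A u) (Or.inl (hA' u)), mul_inv_cancel_right,
          comm1 u' v _ (Or.inr (Or.inr (hb u v)))]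
  have addr : ∀ u v v', ⁅A u, D (v + v')⁆ = ⁅A u, D v⁆ * ⁅A u, D v'⁆ := fun u v v' => by
    rw [Schur.commutatorElement_congr hz rfl (show π (D (v + v')) = π (D v * D v') by
      rw [map_mul, hD, hD, hD, eD_add])]
    calc ⁅A u, D v * D v'⁆ = ⁅A u, D v⁆ * (D v * ⁅A u, D v'⁆ * (D v)⁻¹) := by
          simp only [commutatorElement_def]; group
      _ = _ := by rw [← comm1 u v' (D v) (Or.inr (Or.inl (hD' v))), mul_inv_cancel_right]
  have zl : ∀ v, ⁅A 0, D v⁆ = 1 := fun v => by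
    have e := addl 0 0 v; rw [add_zero] at e; exact left_eq_mul.1 e
  have zr : ∀ u, ⁅A u, D 0⁆ = 1 := fun u => by
    have e := addr u 0 0; rw [add_zero] at e; exact left_eq_mul.1 e
  -- invariance under the torus
  have inv : ∀ c : K, c ≠ 0 → ∀ u v, ⁅A (c * c * u), D ((c * c)⁻¹ * v)⁆ = ⁅A u, D v⁆ := by
    intro c hc u v
    set c' := Units.mk0 c hc
    have hH := cD_mem_H φ h.cube (a := c') (s := 1) (map_one φ)
    obtain ⟨g, hg⟩ := hrange hH.2
    obtain ⟨⟨e18, e13, e12⟩, -, e17, e20, e21⟩ := chars_short φ c' 1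
    have hc1 := norm_eq_one h hc
    have n1 : φ c ≠ 0 := (map_ne_zero φ).2 hc
    have n2 : φ (φ c) ≠ 0 := (map_ne_zero φ).2 n1
    have e18' : (torusChar chevD4 (cD φ c' 1) 18 : K) = c * c := by rw [e18]; simp [c', sq]
    have e13' : (torusChar chevD4 (cD φ c' 1) 13 : K) = φ (c * c) := by rw [e13]; simp [c', sq]
    have e12' : (torusChar chevD4 (cD φ c' 1) 12 : K) = φ (φ (c * c)) := by rw [e12]; simp [c', sq]
    have e17' : (torusChar chevD4 (cD φ c' 1) 17 : K) = (c * c)⁻¹ := by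
      rw [e17]; simp only [c', Units.val_mk0]; field_simp; linear_combination hc1
    have e20' : (torusChar chevD4 (cD φ c' 1) 20 : K) = φ ((c * c)⁻¹) := by
      rw [e20]; simp only [c', Units.val_mk0, map_inv₀, map_mul]; field_simp; linear_combination hc1
    have e21' : (torusChar chevD4 (cD φ c' 1) 21 : K) = φ (φ ((c * c)⁻¹)) := by
      rw [e21]; simp only [c', Units.val_mk0, map_inv₀, map_mul]; field_simp; linear_combination hc1
    have himgA : π (g * A u * g⁻¹) = π (A (c * c * u)) := by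
      rw [map_mul, map_mul, map_inv, hg, hA, hA, eA, eA, ← conj_mul, ← conj_mul, conj_xg _ (by norm_num),
        conj_xg _ (by norm_num), conj_xg _ (by norm_num), e18', e13', e12']
      simp [map_mul]
    have himgD : π (g * D v * g⁻¹) = π (D ((c * c)⁻¹ * v)) := by
      rw [map_mul, map_mul, map_inv, hg, hD, hD, eD, eD, ← conj_mul, ← conj_mul, conj_xg _ (by norm_num),
        conj_xg _ (by norm_num), conj_xg _ (by norm_num), e17', e20', e21']
      simp [map_mul]
    set b := ⁅A u, D v⁆ with hb'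
    have hfix : π (g * b * g⁻¹) = π b := by
      rw [map_mul, map_mul, map_inv, hg]
      refine fix_of_chars φ (1 : Fin 6) (fun r hr => ?_) (hb u v)
      simp [rootsAt] at hr
      subst hr
      refine Units.ext ?_
      rw [(chars_long φ c' 1).2.1]
      simpa [c'] using hc1
    have hk : π ⁅g, b⁆ = 1 := by
      rw [commutatorElement_def, map_mul, hfix, ← map_mul, mul_inv_cancel, map_one]
    have hcg : g * ⁅g, b⁆ = ⁅g, b⁆ * g := cen hz hk g
    have hpow : ∀ n : ℕ, g ^ n * b * (g ^ n)⁻¹ = ⁅g, b⁆ ^ n * b := by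
      intro n
      induction n with
      | zero => simp
      | succ n ih =>
        calc g ^ (n + 1) * b * (g ^ (n + 1))⁻¹ = g * (g ^ n * b * (g ^ n)⁻¹) * g⁻¹ := by rw [pow_succ']; group
          _ = g * ⁅g, b⁆ ^ n * (b * g⁻¹) := by rw [ih]; group
          _ = ⁅g, b⁆ ^ n * (g * b * g⁻¹) := by
              rw [((show Commute g ⁅g, b⁆ from hcg).pow_right n).eq]; group
          _ = _ := by rw [pow_succ]; simp only [commutatorElement_def]; group
    have hcard : Fintype.card Kˣ = 7 := by rw [Fintype.card_units, h.card]; rfl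
    have hg7 : π (g ^ 7) = 1 := by
      rw [map_pow, hg, ← map_pow, show cD φ c' 1 ^ 7 = 1 from ?_, map_one]
      show (_ : Fin 4 → Kˣ) = _
      funext i
      exact hcard ▸ pow_card_eq_one
    have h7 : ⁅g, b⁆ ^ 7 = 1 := by
      have e := hpow 7
      rw [← cen hz hg7 b, mul_inv_cancel_right] at e
      exact right_eq_mul.1 e
    have h2 := hexp _ hk
    have h1 : ⁅g, b⁆ = 1 := by
      rw [show 7 = 2 * 3 + 1 from rfl, pow_succ, pow_mul, h2, one_pow, one_mul] at h7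
      exact h7
    calc ⁅A (c * c * u), D ((c * c)⁻¹ * v)⁆ = ⁅g * A u * g⁻¹, g * D v * g⁻¹⁆ :=
          Schur.commutatorElement_congr hz himgA.symm himgD.symm
      _ = g * b * g⁻¹ := by simp only [hb', commutatorElement_def]; group
      _ = b := by
          rw [show g * b * g⁻¹ = ⁅g, b⁆ * b by simp only [commutatorElement_def]; group, h1, one_mul]
  have toMu : ∀ u v, ⁅A u, D v⁆ = ⁅A 1, D (u * v)⁆ := by
    intro u v
    rcases eq_or_ne u 0 with rfl | hu
    · rw [zl, zero_mul, zr]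
    obtain ⟨l, hl⟩ := FiniteField.isSquare_of_char_two (ringChar.eq K 2) u
    have hl0 : l ≠ 0 := by rintro rfl; exact hu (by simpa using hl)
    rw [← inv l hl0 1 (u * v), mul_one, ← hl, ← mul_assoc, inv_mul_cancel₀ hu, one_mul]
  -- it kills the elements of trace zero
  have hkill : ∀ u, ⁅A 1, D (φ u + φ (φ u))⁆ = 1 := by
    intro u
    obtain ⟨w, hw⟩ := le_range hrange 4 (eC_mem h 1)
    have hw' : π w ∈ Xp φ 4 := hw.symm ▸ eC_mem h 1
    have hC : ∀ t, π ⁅A t, w⁆ ∈ V (Xp φ) 1 4 := fun t => by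
      rw [map_commutatorElement]; exact comm_p φ 0 4 (by norm_num) (by norm_num) _ (hA' t) _ hw'
    have hmid : ∀ t, ∃ p, π p ∈ Xp φ 1 ∧ ∃ r, π r ∈ Xp φ 3 ∧
        π ⁅A t, w⁆ = π (p * (D (φ t + φ (φ t)) * r)) := by
      intro t
      have hmod : Mod (NN K) (π ⁅A t, w⁆) (pr (rootsAt 2) (fD (φ t + φ (φ t)))) := by
        rw [map_commutatorElement, hA, hw]
        convert comm_eA_eC (φ := φ) t using 1
        simp [rootsAt, fD, h.cube, add_comm, map_add]
      obtain ⟨p, hp, d, -, r, hr, e, ed⟩ := middle_mod (hC t) hmod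
      obtain ⟨p', rfl⟩ := le_range hrange 1 hp
      obtain ⟨r', rfl⟩ := le_range hrange 3 hr
      exact ⟨p', hp, r', hr, by rw [e, ed, ← eD_pr, ← hD, map_mul, map_mul]⟩
    have hA1 : ∀ x, π x ∈ Xp φ 1 ∨ π x ∈ Xp φ 3 → ∀ t, Commute (A t) x := fun x hx t =>
      commutatorElement_eq_one_iff_commute.1 (hx.elim (fun hx => hcall (i := 0) (j := 1) (by decide) _ _ (hA' t) hx)
        fun hx => hcall (i := 0) (j := 3) (by decide) _ _ (hA' t) hx)
    obtain ⟨p, hp, r, hr, eC'⟩ := hmid u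
    obtain ⟨p₁, hp₁, r₁, hr₁, eC₁⟩ := hmid 1
    rw [map_one, map_one, CharTwo.add_self_eq_zero] at eC₁
    have hmidc : ∀ x y, π x ∈ Xp φ 1 ∨ π x ∈ Xp φ 2 ∨ π x ∈ Xp φ 3 →
        π y ∈ Xp φ 1 ∨ π y ∈ Xp φ 2 ∨ π y ∈ Xp φ 3 → Commute x y := by
      intro x y hx hy
      refine commutatorElement_eq_one_iff_commute.1 ?_
      rcases hx with hx | hx | hx <;> rcases hy with hy | hy | hy
      · exact hcall (i := 1) (j := 1) (by decide) _ _ hx hy
      · exact hcall (i := 1) (j := 2) (by decide) _ _ hx hy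
      · exact hcall (i := 1) (j := 3) (by decide) _ _ hx hy
      · exact symm_comm (hcall (i := 1) (j := 2) (by decide)) _ _ hx hy
      · exact hcall (i := 2) (j := 2) (by decide) _ _ hx hy
      · exact hcall (i := 2) (j := 3) (by decide) _ _ hx hy
      · exact symm_comm (hcall (i := 1) (j := 3) (by decide)) _ _ hx hy
      · exact symm_comm (hcall (i := 2) (j := 3) (by decide)) _ _ hx hy
      · exact hcall (i := 3) (j := 3) (by decide) _ _ hx hy
    set v := φ u + φ (φ u)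
    have hcP : Commute (p₁ * (D 0 * r₁)) (p * (D v * r)) := by
      have k : ∀ x, π x ∈ Xp φ 1 ∨ π x ∈ Xp φ 2 ∨ π x ∈ Xp φ 3 → Commute x (p * (D v * r)) := fun x hx =>
        (hmidc x p hx (Or.inl hp)).mul_right
          ((hmidc x (D v) hx (Or.inr (Or.inl (hD' v)))).mul_right (hmidc x r hx (Or.inr (Or.inr hr))))
      exact (k p₁ (Or.inl hp₁)).mul_left ((k (D 0) (Or.inr (Or.inl (hD' 0)))).mul_left
        (k r₁ (Or.inr (Or.inr hr₁))))
    set C := ⁅A 1, w⁆
    set C' := ⁅A u, w⁆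
    have hCC : Commute C C' := commutatorElement_eq_one_iff_commute.1 (by
      rw [Schur.commutatorElement_congr hz eC₁ eC', commutatorElement_eq_one_iff_commute]; exact hcP)
    have hAA : Commute (A 1) (A u) := commutatorElement_eq_one_iff_commute.1
      (hcall (i := 0) (j := 0) (by decide) _ _ (hA' 1) (hA' u))
    have huC : Commute (A u) C := by
      refine commutatorElement_eq_one_iff_commute.1 ?_
      rw [Schur.commutatorElement_congr hz rfl eC₁, commutatorElement_eq_one_iff_commute]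
      exact (hA1 p₁ (Or.inl hp₁) u).mul_right
        ((commutatorElement_eq_one_iff_commute.1 (zr u)).mul_right (hA1 r₁ (Or.inr hr₁) u))
    have e1 : A 1 * C' * (A 1)⁻¹ = C' := by
      have k : A 1 * C' * (A 1)⁻¹ * C * w = A u * C * (A u)⁻¹ * C' * w := by
        calc A 1 * C' * (A 1)⁻¹ * C * w = A 1 * A u * w * ((A 1 * A u))⁻¹ := by
              simp only [C, C', commutatorElement_def]; group
          _ = A u * A 1 * w * ((A u * A 1))⁻¹ := by rw [hAA.eq]
          _ = A u * C * (A u)⁻¹ * C' * w := by simp only [C, C', commutatorElement_def]; group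
      have k' := mul_right_cancel k
      rw [huC.eq, mul_inv_cancel_right, hCC.eq] at k'
      exact mul_right_cancel k'
    have e2 : ⁅A 1, p * (D v * r)⁆ = 1 := by
      rw [← Schur.commutatorElement_congr hz (rfl : π (A 1) = π (A 1)) eC', commutatorElement_def, e1,
        mul_inv_cancel]
    calc ⁅A 1, D v⁆
        = p⁻¹ * ⁅A 1, p * (D v * r)⁆ * p := by
          have kp := hA1 p (Or.inl hp) 1
          have kr := hA1 r (Or.inr hr) 1
          have e3 : ⁅A 1, p * (D v * r)⁆ = ⁅A 1, p⁆ * (p * (⁅A 1, D v⁆ * (D v * ⁅A 1, r⁆ * (D v)⁻¹)) * p⁻¹) := by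
            simp only [commutatorElement_def]; group
          rw [e3, commutatorElement_eq_one_iff_commute.2 kp, commutatorElement_eq_one_iff_commute.2 kr]
          group
      _ = 1 := by rw [e2]; group
  -- so the commutators take two values
  let μ : K → E := fun x => ⁅A 1, D x⁆
  let R : Subgroup E :=
    { carrier := Set.range μ
      one_mem' := ⟨0, zr 1⟩
      mul_mem' := by rintro _ _ ⟨x, rfl⟩ ⟨y, rfl⟩; exact ⟨x + y, addr 1 x y⟩
      inv_mem' := by
        rintro _ ⟨x, rfl⟩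
        exact ⟨-x, eq_inv_of_mul_eq_one_left (by rw [← addr 1 (-x) x, neg_add_cancel, zr])⟩ }
  have hTR : T ≤ R := by
    rw [hT', Subgroup.closure_le]
    rintro _ ⟨a, d, ha, hd, rfl⟩
    obtain ⟨u, eu⟩ := exists_eA φ ha
    obtain ⟨v, ev⟩ := D4Invol.exists_eD φ (show π d ∈ (tw3D4 φ).X' 9 from hd)
    exact ⟨u * v, (toMu u v).symm.trans (Schur.commutatorElement_congr hz ((hA u).trans eu.symm)
      ((hD v).trans ev.symm))⟩
  rintro z ⟨hz1, hz2⟩
  obtain ⟨x, rfl⟩ := hTR hz1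
  rw [Subgroup.mem_bot]
  by_contra hne
  have htr : ∀ y : K, φ (y + φ y + φ (φ y)) = y + φ y + φ (φ y) := fun y => by
    rw [map_add, map_add, h.cube]; ring
  have h0 : ∀ y : K, y + φ y + φ (φ y) = 0 → μ y = 1 := fun y hy => by
    have : y = φ y + φ (φ y) := by rwa [add_assoc, CharTwo.add_eq_zero] at hy
    conv_lhs => rw [this]
    exact hkill y
  rcases fixed_eq h (htr x) with hx | hx
  · exact hne (h0 x hx)
  have hall : ∀ y ∈ T, π y = 1 := by
    intro y hy
    obtain ⟨t, rfl⟩ := hTR hy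
    rcases fixed_eq h (htr t) with ht | ht
    · rw [h0 t ht, map_one]
    · have h1 : μ (t + x) = 1 := h0 _ (by
        rw [map_add, map_add]
        linear_combination hx + ht + (CharTwo.add_self_eq_zero (1 : K)))
      rw [show μ (t + x) = μ t * μ x from addr 1 t x] at h1
      have := congrArg π h1
      rwa [map_mul, map_one, show π (μ x) = 1 from hz2, mul_one] at this
  refine RootBN.Twist.X'_ne_bot' (hT φ) (pos 1) ((Subgroup.eq_bot_iff_forall _).2 fun y hy => ?_)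
  have : (y : GL chevD4.Idx K) ∈ T.map π := by
    refine (one_generated h).trans ((Subgroup.closure_le _).2 ?_) hy
    rintro _ ⟨a, ha, b, hb, rfl⟩
    obtain ⟨a, rfl⟩ := le_range hrange 0 ha
    obtain ⟨d, rfl⟩ := le_range hrange 2 hb
    exact ⟨⁅a, d⁆, Subgroup.subset_closure ⟨a, d, ha, hb, rfl⟩, map_commutatorElement π a d⟩
  obtain ⟨t, ht, rfl⟩ := this
  exact hall t ht

end Cfsg.Agent.D4Stem
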