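/-
³D₄(q): central extensions split over the unipotent group.
-/
import Cfsg.Agent.Lib.Chev.D4Stem.SplitTwo

set_option autoImplicit false

namespace Cfsg.Agent.D4Stem

open Cfsg.Lie Cfsg.Agent.Chev
open Cfsg.Agent.RootBN (Data)
open Cfsg.Agent.Chev.BNSetup (tw3D4 orbD4 torusHom torusChar)
open Cfsg.Agent.D4Invol (hn hT hax eA eC eA_mem exists_eA)
open Cfsg.Agent.Schur.ChainLift
open Cfsg.Agent.Schur.RootLift (IsLift V le_V V_mono V_split V_empty)
open scoped commutatorElement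

variable {K : Type*} [Field K] [Fintype K] {φ : K ≃+* K} {q : ℕ} (h : Hyp φ q)
include h

theorem exists_fixed_unit (hq : 3 ≤ q) : ∃ a : Kˣ, φ (a : K) = a ∧ a ≠ 1 := by
  by_contra hc
  push Not at hc
  have hle : Nat.card {x : K // φ x = x} ≤ Nat.card (Fin 2) := by
    classical
    refine Nat.card_le_card_of_injective (fun x => if x.1 = 0 then (0 : Fin 2) else 1) ?_
    intro x y e
    refine Subtype.ext ?_
    have key : ∀ z : {x : K // φ x = x}, z.1 ≠ 0 → z.1 = 1 := fun z hz0 =>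
      congrArg Units.val (hc (Units.mk0 z.1 hz0) z.2)
    by_cases hx : x.1 = 0 <;> by_cases hy : y.1 = 0
    · rw [hx, hy]
    · simp [hx, hy] at e
    · simp [hx, hy] at e
    · rw [key x hx, key y hy]
  rw [h.fixed, Nat.card_fin] at hle
  omega

/-- The torus element of a fixed parameter and its square. -/
theorem exists_fix_move (hq : 3 ≤ q) : ∃ c, torusHom K chevD4 c ∈ (tw3D4 φ).data.H ∧
    (∀ r ∈ rootsAt 0, torusChar chevD4 c r = 1) ∧ (∀ r ∈ rootsAt 2, torusChar chevD4 c r ≠ 1) ∧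
    ∀ r ∈ rootsAt 4, torusChar chevD4 c r ≠ 1 := by
  obtain ⟨a, ha, ha1⟩ := exists_fixed_unit h hq
  have hs : φ ((a ^ 2 : Kˣ) : K) = ((a ^ 2 : Kˣ) : K) := by rw [Units.val_pow_eq_pow_val, map_pow, ha]
  refine ⟨_, cD_mem_H φ h.cube (a := a) hs, ?_⟩
  obtain ⟨⟨e18, e13, e12⟩, ⟨e19, e16, e15⟩, e17, e20, e21⟩ := chars_short φ a (a ^ 2)
  simp only [Units.val_pow_eq_pow_val, ha] at e18 e13 e12 e19 e16 e15 e17 e20 e21
  have h0 : (a : K) ≠ 0 := a.ne_zero
  have hne : (a : K) ≠ 1 := fun e => ha1 (Units.ext e)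
  refine ⟨fun r hr => ?_, fun r hr e => hne ?_, fun r hr e => hne ?_⟩ <;> simp [rootsAt] at hr <;>
    rcases hr with rfl | rfl | rfl
  · exact Units.ext (by rw [e18, div_self (pow_ne_zero 2 h0), Units.val_one])
  · exact Units.ext (by rw [e13, div_self (pow_ne_zero 2 h0), Units.val_one])
  · exact Units.ext (by rw [e12, div_self (pow_ne_zero 2 h0), Units.val_one])
  all_goals (replace e := congrArg Units.val e; rw [Units.val_one] at e)
  · rw [e17] at e; rwa [mul_div_assoc, div_self h0, mul_one] at e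
  · rw [e20] at e; rwa [mul_div_assoc, div_self h0, mul_one] at e
  · rw [e21] at e; rwa [mul_div_assoc, div_self h0, mul_one] at e
  · rw [e19] at e; rwa [← sq, mul_div_assoc, div_self (pow_ne_zero 2 h0), mul_one] at e
  · rw [e16] at e; rwa [← sq, mul_div_assoc, div_self (pow_ne_zero 2 h0), mul_one] at e
  · rw [e15] at e; rwa [← sq, mul_div_assoc, div_self (pow_ne_zero 2 h0), mul_one] at e

variable {E : Type*} [Group E] {π : E →* GL chevD4.Idx K} (hrange : (tw3D4 φ).Gt ≤ π.range)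
  (hz : π.ker ≤ Subgroup.center E)
include hrange hz

omit [Fintype K] h hrange hz in
/-- Torus elements commute. -/
theorem commute_H {x y : GL chevD4.Idx K} (hx : x ∈ (tw3D4 φ).data.H) (hy : y ∈ (tw3D4 φ).data.H) :
    x * y = y * x := by
  have hr : ∀ z ∈ (tw3D4 φ).data.H, ∃ c, torusHom K chevD4 c = z := fun z hz' => by
    have : z ∈ chevD4.diagonalSubgroup K := hz'.1
    rw [BNSetup.diagonal_eq_range D4.good] at this
    exact this
  obtain ⟨c, rfl⟩ := hr x hx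
  obtain ⟨d, rfl⟩ := hr y hy
  rw [← map_mul, ← map_mul, mul_comm]

omit h hrange hz [Fintype K] in
/-- Normalised lifts of the classes, conjugated. -/
theorem stable_conj {o : ℕ} {S : Subgroup E} {e : E} (he : π e ∈ (tw3D4 φ).data.N)
    (hn₀ : ∀ g, π g ∈ (tw3D4 φ).data.H → ∀ s ∈ S, g * s * g⁻¹ ∈ S) (_ho : o < 6) :
    ∀ g, π g ∈ (tw3D4 φ).data.H → ∀ s ∈ S.map (MulAut.conj e).toMonoidHom,
      g * s * g⁻¹ ∈ S.map (MulAut.conj e).toMonoidHom := by
  rintro g hg _ ⟨s, hs, rfl⟩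
  refine ⟨(e⁻¹ * g * e) * s * (e⁻¹ * g * e)⁻¹, hn₀ _ ?_ _ hs, ?_⟩
  · rw [map_mul, map_mul, map_inv]
    have := Data.N_conj_H (hax φ) ((tw3D4 φ).data.N.inv_mem he) hg
    rwa [inv_inv] at this
  · show e * (e⁻¹ * g * e * s * (e⁻¹ * g * e)⁻¹) * e⁻¹ = g * (e * s * e⁻¹) * g⁻¹
    group

/-- A lift of a short class. -/
theorem exists_lift_short {i : Fin 6} (hi : i ∈ [(0 : Fin 6), 2, 4]) : ∃ S : Subgroup E,
    IsLift π (Xp φ i.val) S ∧ ∀ g, π g ∈ (tw3D4 φ).data.H → ∀ s ∈ S, g * s * g⁻¹ ∈ S := by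
  obtain ⟨a, -, -, hch⟩ := exists_h0 h
  have hH := cD_mem_H φ h.cube (a := a) (s := 1) (map_one φ)
  obtain ⟨g₀, hg₀⟩ := hrange hH.2
  have hmem : ∀ r ∈ rootsAt i.val, torusChar chevD4 (cD φ a 1) r ≠ 1 := fun r hr => hch r (by
    simp only [List.mem_cons, List.not_mem_nil, or_false] at hi
    rcases hi with rfl | rfl | rfl <;> simp [rootsAt] at hr ⊢ <;> tauto)
  obtain ⟨S, hS, hn₀⟩ := exists_lift_abelian hz (X := Xp φ i.val) (h := g₀) (le_range hrange i.val)
    (lift_comm_all h hrange hz (i := i) (j := i) (by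
      simp only [List.mem_cons, List.not_mem_nil, or_false] at hi
      rcases hi with rfl | rfl | rfl <;> decide))
    (fun x hx => by rw [hg₀]; exact (hax φ).H_conj (pos i.val) _ hH _ hx)
    (fun x hx e => fpf_of_chars φ i hmem hx (hg₀ ▸ e))
  exact ⟨S, hS, fun g hg => hn₀ g (fun x hx => (hax φ).H_conj (pos i.val) _ hg _ hx)
    (by rw [hg₀]; exact commute_H hg hH)⟩

/-- A lift of the class of `3a + b` containing the commutators of the classes of `a` and `2a + b`. -/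
theorem exists_lift_one (hexp : q = 2 → ∀ z ∈ π.ker, z ^ 2 = 1) {S₀ S₂ : Subgroup E}
    (hS₀ : IsLift π (Xp φ 0) S₀) (hS₂ : IsLift π (Xp φ 2) S₂)
    (hn₀ : ∀ g, π g ∈ (tw3D4 φ).data.H → ∀ s ∈ S₀, g * s * g⁻¹ ∈ S₀)
    (hn₂ : ∀ g, π g ∈ (tw3D4 φ).data.H → ∀ s ∈ S₂, g * s * g⁻¹ ∈ S₂) : ∃ S : Subgroup E,
    IsLift π (Xp φ 1) S ∧ (∀ g, π g ∈ (tw3D4 φ).data.H → ∀ s ∈ S, g * s * g⁻¹ ∈ S) ∧
      ∀ a d, π a ∈ Xp φ 0 → π d ∈ Xp φ 2 → ⁅a, d⁆ ∈ S := by
  rcases eq_or_lt_of_le h.two_le with rfl | hq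
  · have : CharP K 2 := charP_of_card_eq_prime_pow (f := 3) h.card
    refine ⟨_, lift_one_two h hrange hz (hexp rfl), fun g hg => ?_,
      fun a d ha hd => Subgroup.subset_closure ⟨a, d, ha, hd, rfl⟩⟩
    set T := Subgroup.closure {c | ∃ a d, π a ∈ Xp φ 0 ∧ π d ∈ Xp φ 2 ∧ c = ⁅a, d⁆}
    intro s hs
    refine (show T ≤ T.comap (MulAut.conj g).toMonoidHom from (Subgroup.closure_le _).2 ?_) hs
    rintro _ ⟨a, d, ha, hd, rfl⟩
    refine Subgroup.subset_closure ⟨g * a * g⁻¹, g * d * g⁻¹, ?_, ?_, ?_⟩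
    · rw [map_mul, map_mul, map_inv]; exact (hax φ).H_conj (pos 0) _ hg _ ha
    · rw [map_mul, map_mul, map_inv]; exact (hax φ).H_conj (pos 2) _ hg _ hd
    · show g * ⁅a, d⁆ * g⁻¹ = _
      simp only [commutatorElement_def]; group
  · obtain ⟨u, hu, hu1⟩ := exists_fixed_unit h hq
    have hH := cD_mem_H φ h.cube (a := 1) hu
    obtain ⟨g₁, hg₁⟩ := hrange hH.2
    have hch : ∀ r ∈ rootsAt 1, torusChar chevD4 (cD φ 1 u) r ≠ 1 := by
      intro r hr e
      simp [rootsAt] at hr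
      subst hr
      have := congrArg Units.val e
      rw [(chars_long φ 1 u).2.1] at this
      simp at this
      exact hu1 this
    obtain ⟨S, hS, hnS⟩ := exists_lift_abelian hz (X := Xp φ 1) (h := g₁) (le_range hrange 1)
      (lift_comm_all h hrange hz (i := 1) (j := 1) (by decide))
      (fun x hx => by rw [hg₁]; exact (hax φ).H_conj (pos 1) _ hH _ hx)
      (fun x hx e => fpf_of_chars φ (1 : Fin 6) hch hx (hg₁ ▸ e))
    have hstab : ∀ g, π g ∈ (tw3D4 φ).data.H → ∀ s ∈ S, g * s * g⁻¹ ∈ S := fun g hg =>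
      hnS g (fun x hx => (hax φ).H_conj (pos 1) _ hg _ hx) (by rw [hg₁]; exact commute_H hg hH)
    refine ⟨S, hS, hstab, ?_⟩
    obtain ⟨c, hcH, hc0, hc2, -⟩ := exists_fix_move h hq
    obtain ⟨g, hg⟩ := hrange hcH.2
    have hrel := rel_of_fpf hz hS₀ hS₂ hS (fun x hx y hy => by
        have := comm_p φ 0 2 (by norm_num) (by norm_num) _ hx _ hy
        rwa [V_split _ (by norm_num), V_empty _ le_rfl, sup_bot_eq] at this)
      (fun s hs w hw => by
        rw [commutatorElement_eq_one_iff_mul_comm.1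
          (lift_comm_all h hrange hz (i := 0) (j := 1) (by decide) s w (hS₀.map_mem hs) (hS.map_mem hw)),
          mul_inv_cancel_right]
        exact hw)
      (fun t ht w hw => by
        rw [← commutatorElement_eq_one_iff_mul_comm.1
          (lift_comm_all h hrange hz (i := 1) (j := 2) (by decide) w t (hS.map_mem hw) (hS₂.map_mem ht)),
          mul_inv_cancel_right]
        exact hw)
      (hn₀ g (hg ▸ hcH)) (hn₂ g (hg ▸ hcH)) (hstab g (hg ▸ hcH))
      (fun x hx => by rw [hg]; exact fix_of_chars φ (0 : Fin 6) hc0 hx)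
      (fun y hy => by rw [hg]; exact sur_of_chars φ hcH (2 : Fin 6) hc2 hy)
    intro a d ha hd
    obtain ⟨s, hs, es⟩ := hS₀.exists_mem ha
    obtain ⟨t, ht, et⟩ := hS₂.exists_mem hd
    rw [Schur.commutatorElement_congr hz es.symm et.symm]
    exact hrel s hs t ht

omit [Fintype K] h hrange hz in
/-- A member normalises an interval when its commutators with the generators lie in it. -/
theorem norm_V {S : ℕ → Subgroup E} {lo hi : ℕ} {s : E}
    (hs : ∀ c, lo ≤ c → c < hi → ∀ w ∈ S c, ⁅s, w⁆ ∈ V S lo hi) :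
    ∀ w ∈ V S lo hi, s * w * s⁻¹ ∈ V S lo hi := fun w hw =>
  (show V S lo hi ≤ (V S lo hi).comap (MulAut.conj s).toMonoidHom from iSup₂_le fun c hc y hy => by
    have := (V S lo hi).mul_mem (hs c hc.1 hc.2 y hy) (le_V S hc.1 hc.2 hy)
    simpa [commutatorElement_def] using this) hw

omit hrange in
/-- For `q = 2` the error of the classes of `a` and `a + b` vanishes by invariance. -/
theorem rel_zero_four_two (hq : q = 2) (hrange' : (tw3D4 φ).Gt ≤ π.range) {W S T : Subgroup E}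
    {Wm : Subgroup (GL chevD4.Idx K)} (hS : IsLift π (Xp φ 0) S) (hT : IsLift π (Xp φ 4) T)
    (hW : IsLift π Wm W) (hcomm : ∀ x ∈ Xp φ 0, ∀ y ∈ Xp φ 4, ⁅x, y⁆ ∈ Wm)
    (hnS : ∀ s ∈ S, ∀ w ∈ W, s * w * s⁻¹ ∈ W) (hnT : ∀ t ∈ T, ∀ w ∈ W, t * w * t⁻¹ ∈ W)
    (hgS : ∀ g, π g ∈ (tw3D4 φ).data.H → ∀ s ∈ S, g * s * g⁻¹ ∈ S)
    (hgT : ∀ g, π g ∈ (tw3D4 φ).data.H → ∀ s ∈ T, g * s * g⁻¹ ∈ T)
    (hgW : ∀ g, π g ∈ (tw3D4 φ).data.H → ∀ s ∈ W, g * s * g⁻¹ ∈ W) :
    ∀ s ∈ S, ∀ t ∈ T, ⁅s, t⁆ ∈ W := by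
  subst hq
  have : CharP K 2 := charP_of_card_eq_prime_pow (f := 3) h.card
  obtain ⟨k, hk, addl, addr, hinv⟩ := exists_error hz hW
    (fun s hs t ht => by rw [map_commutatorElement]; exact hcomm _ (hS.map_mem hs) _ (hT.map_mem ht)) hnS hnT
  choose L hL eL using fun t : K => hS.exists_mem (show eA φ t ∈ Xp φ 0 from eA_mem φ h.cube t)
  choose R hR eR using fun t : K => hT.exists_mem (eC_mem h t)
  let _ : CommGroup π.ker :=
    { (inferInstance : Group π.ker) with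
      mul_comm := fun x y => Subtype.ext (Subgroup.mem_center_iff.1 (hz y.2) (x : E)) }
  let β : K → K → π.ker := fun u v => ⟨k (L u) (R v), (hk _ (hL u) _ (hR v)).1⟩
  let fA : K → ℕ → K := fun t r => if r = 18 then t else if r = 13 then φ t else φ (φ t)
  let fC : K → ℕ → K := fun t r => if r = 19 then t else if r = 16 then φ t else φ (φ t)
  have addA : ∀ t u : K, eA φ t * eA φ u = eA φ (t + u) := fun t u => by
    obtain ⟨-, h2, -, h4⟩ := rootsAt_check 0
    have e : ∀ t, eA φ t = pr (rootsAt 0) (fA t) := fun t => by simp [eA, rootsAt, fA]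
    rw [e, e, e, pr_mul (rootsAt 0) (fun r hr => (h2 r hr).1)
      (fun r hr s hs => ⟨(h4 r hr s hs).1, (h4 r hr s hs).2.2⟩)]
    exact pr_congr fun r _ => by simp only [fA, Pi.add_apply]; split_ifs <;> simp [map_add]
  have addC : ∀ t u : K, eC φ t * eC φ u = eC φ (t + u) := fun t u => by
    obtain ⟨-, h2, -, h4⟩ := rootsAt_check 4
    have e : ∀ t, eC φ t = pr (rootsAt 4) (fC t) := fun t => by simp [eC, rootsAt, fC]
    rw [e, e, e, pr_mul (rootsAt 4) (fun r hr => (h2 r hr).1)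
      (fun r hr s hs => ⟨(h4 r hr s hs).1, (h4 r hr s hs).2.2⟩)]
    exact pr_congr fun r _ => by simp only [fC, Pi.add_apply]; split_ifs <;> simp [map_add]
  have hLadd : ∀ t u, L (t + u) = L t * L u := fun t u =>
    hS.inj (hL _) (S.mul_mem (hL t) (hL u)) (by rw [map_mul, eL, eL, eL, addA])
  have hRadd : ∀ t u, R (t + u) = R t * R u := fun t u =>
    hT.inj (hR _) (T.mul_mem (hR t) (hR u)) (by rw [map_mul, eR, eR, eR, addC])
  have hz0 : ∀ u v, β u v = 1 := by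
    refine S2117.pairing_trivial ?_ ?_ ?_ β ?_ ?_ ?_
    · rw [h.card]; norm_num
    · rw [h.card]; norm_num
    · rw [h.card]; norm_num
    · intro u u' v
      exact Subtype.ext (by show k (L (u + u')) (R v) = _; rw [hLadd, addl _ (hL u) _ (hL u') _ (hR v)]; rfl)
    · intro u v v'
      exact Subtype.ext (by show k (L u) (R (v + v')) = _; rw [hRadd, addr _ (hL u) _ (hR v) _ (hR v')]; rfl)
    · intro a u v ha
      set a' := Units.mk0 a ha
      have hH := cD_mem_H φ h.cube (a := a') (s := 1) (map_one φ)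
      obtain ⟨g, hg⟩ := hrange' hH.2
      obtain ⟨⟨e18, e13, e12⟩, ⟨e19, e16, e15⟩, -⟩ := chars_short φ a' 1
      have hN := norm_eq_one h ha
      have n1 : φ a ≠ 0 := (map_ne_zero φ).2 ha
      have n2 : φ (φ a) ≠ 0 := (map_ne_zero φ).2 n1
      have e19' : (torusChar chevD4 (cD φ a' 1) 19 : K) = a * a := by
        rw [e19]; simp only [a', Units.val_mk0, Units.val_one, mul_one]; field_simp
        linear_combination -hN
      have e16' : (torusChar chevD4 (cD φ a' 1) 16 : K) = φ (a * a) := by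
        rw [e16]; simp only [a', Units.val_mk0, Units.val_one, mul_one, map_mul]; field_simp
        linear_combination -hN
      have e15' : (torusChar chevD4 (cD φ a' 1) 15 : K) = φ (φ (a * a)) := by
        rw [e15]; simp only [a', Units.val_mk0, Units.val_one, mul_one, map_mul]; field_simp
        linear_combination -hN
      have hgg : π g ∈ (tw3D4 φ).data.H := hg ▸ hH
      have iL : g * L u * g⁻¹ = L (a * a * u) := hS.inj (hgS g hgg _ (hL u)) (hL _) (by
        rw [map_mul, map_mul, map_inv, hg, eL, eL, eA, eA, ← conj_mul, ← conj_mul, conj_xg _ (by norm_num),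
          conj_xg _ (by norm_num), conj_xg _ (by norm_num), e18, e13, e12]
        simp [a', map_mul, sq])
      have iR : g * R v * g⁻¹ = R (a * a * v) := hT.inj (hgT g hgg _ (hR v)) (hR _) (by
        rw [map_mul, map_mul, map_inv, hg, eR, eR, eC, eC, ← conj_mul, ← conj_mul, conj_xg _ (by norm_num),
          conj_xg _ (by norm_num), conj_xg _ (by norm_num), e19', e16', e15']
        simp [map_mul])
      refine Subtype.ext ?_
      show k (L (a * a * u)) (R (a * a * v)) = k (L u) (R v)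
      rw [← iL, ← iR, hinv g (hgS g hgg) (hgT g hgg) (hgW g hgg) _ (hL u) _ (hR v)]
  intro s hs t ht
  obtain ⟨u, eu⟩ := exists_eA φ (show π s ∈ (tw3D4 φ).X' 6 from hS.map_mem hs)
  obtain ⟨v, ev⟩ := D4Invol.exists_eC φ (show π t ∈ (tw3D4 φ).X' 8 from hT.map_mem ht)
  obtain rfl : s = L u := hS.inj hs (hL u) (by rw [eu, eL])
  obtain rfl : t = R v := hT.inj ht (hR v) (by rw [ev, eR])
  obtain ⟨-, w, hw, e⟩ := hk _ hs _ ht
  have h1 : k (L u) (R v) = 1 := congrArg Subtype.val (hz0 u v)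
  rw [e, h1, one_mul]
  exact hw

/-- The unipotent group lifts. -/
theorem exists_lift_U (hexp : q = 2 → ∀ z ∈ π.ker, z ^ 2 = 1) :
    ∃ S : Subgroup E, IsLift π (tw3D4 φ).data.U S := by
  have hcall := fun {i j : Fin 6} hp => lift_comm_all h hrange hz (i := i) (j := j) hp
  obtain ⟨S₀, hS₀, hn₀⟩ := exists_lift_short h hrange hz (i := 0) (by decide)
  obtain ⟨S₂, hS₂, hn₂⟩ := exists_lift_short h hrange hz (i := 2) (by decide)
  obtain ⟨S₄, hS₄, hn₄⟩ := exists_lift_short h hrange hz (i := 4) (by decide)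
  obtain ⟨S₁, hS₁, hn₁, h02⟩ := exists_lift_one h hrange hz hexp hS₀ hS₂ hn₀ hn₂
  obtain ⟨e0, he0⟩ := hrange ((hT φ).nn'_mem 0)
  obtain ⟨e1, he1⟩ := hrange ((hT φ).nn'_mem 1)
  have heN : ∀ (k : Fin 2) e, π e = (tw3D4 φ).nn' k → π e ∈ (tw3D4 φ).data.N := fun k e he =>
    he.symm ▸ Data.nn_mem_N (D := (tw3D4 φ).data) k
  obtain ⟨r04, r13, r42, r15, -⟩ := refl_table
  have hback : ∀ (k : Fin 2) e, π e = (tw3D4 φ).nn' k → ∀ {i i' : ℕ}, orbD4.reflF 12 2 k (pos i) = pos i' →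
      ∀ x, ((π e)⁻¹ * x * π e ∈ Xp φ i ↔ x ∈ Xp φ i') := by
    intro k e he i i' hi x
    have hact := Data.acts_nw (hax φ) [k] (pos i) ((π e)⁻¹ * x * π e)
    rw [show (tw3D4 φ).data.nw [k] = π e by simp [he]; rfl,
      show (tw3D4 φ).data.wl [k] (pos i) = pos i' by rw [D4Invol.wl_apply]; exact hi,
      show π e * ((π e)⁻¹ * x * π e) * (π e)⁻¹ = x by group] at hact
    exact hact.symm
  have hconjLift : ∀ (k : Fin 2) e, π e = (tw3D4 φ).nn' k → ∀ {i i' : ℕ}, orbD4.reflF 12 2 k (pos i) = pos i' →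
      ∀ {S : Subgroup E}, IsLift π (Xp φ i) S → IsLift π (Xp φ i') (S.map (MulAut.conj e).toMonoidHom) := by
    intro k e he i i' hi S hS
    have hX : Xp φ i' = (Xp φ i).map (MulAut.conj (π e)).toMonoidHom := by
      ext x
      rw [Subgroup.mem_map_equiv, ← hback k e he hi x]
      simp
    rw [hX]
    exact isLift_conj hS e
  let S₃ := S₁.map (MulAut.conj e0).toMonoidHom
  let S₅ := S₁.map (MulAut.conj e1).toMonoidHom
  have hS₃ : IsLift π (Xp φ 3) S₃ := hconjLift 0 e0 he0 r13 hS₁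
  have hS₅ : IsLift π (Xp φ 5) S₅ := hconjLift 1 e1 he1 r15 hS₁
  have hn₃ := stable_conj (φ := φ) (o := 3) (heN 0 e0 he0) hn₁ (by norm_num)
  have hn₅ := stable_conj (φ := φ) (o := 5) (heN 1 e1 he1) hn₁ (by norm_num)
  have h24 : ∀ a b, π a ∈ Xp φ 2 → π b ∈ Xp φ 4 → ⁅a, b⁆ ∈ S₃ := by
    intro a b ha hb
    have r22 : orbD4.reflF 12 2 0 (pos 2) = pos 2 := by decide +kernel
    have ha' : π (e0⁻¹ * a * e0) ∈ Xp φ 2 := by
      rw [map_mul, map_mul, map_inv]; exact (hback 0 e0 he0 r22 _).2 ha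
    have hb' : π (e0⁻¹ * b * e0) ∈ Xp φ 0 := by
      rw [map_mul, map_mul, map_inv]; exact (hback 0 e0 he0 r04 _).2 hb
    refine ⟨⁅e0⁻¹ * a * e0, e0⁻¹ * b * e0⁆, ?_, ?_⟩
    · rw [← commutatorElement_inv]
      exact S₁.inv_mem (h02 _ _ hb' ha')
    · show e0 * ⁅e0⁻¹ * a * e0, e0⁻¹ * b * e0⁆ * e0⁻¹ = _
      simp only [commutatorElement_def]; group
  let S : ℕ → Subgroup E := fun i => [S₀, S₁, S₂, S₃, S₄, S₅].getD i ⊥
  have hS : ∀ c, c < 6 → IsLift π (Xp φ c) (S c) := by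
    intro c hc
    interval_cases c
    exacts [hS₀, hS₁, hS₂, hS₃, hS₄, hS₅]
  have hnS : ∀ g, π g ∈ (tw3D4 φ).data.H → ∀ c < 6, ∀ s ∈ S c, g * s * g⁻¹ ∈ S c := by
    intro g hg c hc
    interval_cases c
    exacts [hn₀ g hg, hn₁ g hg, hn₂ g hg, hn₃ g hg, hn₄ g hg, hn₅ g hg]
  have hgV : ∀ g, π g ∈ (tw3D4 φ).data.H → ∀ {lo hi : ℕ}, hi ≤ 6 →
      ∀ w ∈ V S lo hi, g * w * g⁻¹ ∈ V S lo hi := fun g hg {lo hi} hh w hw =>
    (show V S lo hi ≤ (V S lo hi).comap (MulAut.conj g).toMonoidHom from iSup₂_le fun c hc y hy =>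
      le_V S hc.1 hc.2 (hnS g hg c (by omega) y hy)) hw
  have hc1 : ∀ {i j : Fin 6}, (i, j) ∈ [((0 : Fin 6), (1 : Fin 6)), (1, 2), (2, 3), (3, 4), (4, 5), (0, 3), (1, 4),
      (2, 5), (1, 3), (3, 5), (0, 0), (1, 1), (2, 2), (3, 3), (4, 4), (5, 5)] →
      ∀ x ∈ S i.val, ∀ y ∈ S j.val, ⁅x, y⁆ = 1 := fun hp x hx y hy =>
    hcall hp x y ((hS _ (Fin.is_lt _)).map_mem hx) ((hS _ (Fin.is_lt _)).map_mem hy)
  have r02 : ∀ x ∈ S 0, ∀ y ∈ S 2, ⁅x, y⁆ ∈ S 1 := fun x hx y hy =>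
    h02 x y (hS₀.map_mem hx) (hS₂.map_mem hy)
  have r24 : ∀ x ∈ S 2, ∀ y ∈ S 4, ⁅x, y⁆ ∈ S 3 := fun x hx y hy =>
    h24 x y (hS₂.map_mem hx) (hS₄.map_mem hy)
  have inv_rel : ∀ {W : Subgroup E} {x y : E}, ⁅x, y⁆ ∈ W → ⁅y, x⁆ ∈ W := fun {W x y} hh => by
    rw [← commutatorElement_inv]; exact W.inv_mem hh
  have one_rel : ∀ {W : Subgroup E} {x y : E}, ⁅x, y⁆ = 1 → ⁅x, y⁆ ∈ W ∧ ⁅y, x⁆ ∈ W := fun {W x y} hh =>
    ⟨hh ▸ W.one_mem, inv_rel (hh ▸ W.one_mem)⟩
  -- the interval of places 1 to 4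
  have rel14 : ∀ a b, 1 ≤ a → a < b → b < 5 → ∀ x ∈ S a, ∀ y ∈ S b, ⁅x, y⁆ ∈ V S (a + 1) b := by
    intro a b h1 h2 h3 x hx y hy
    interval_cases b <;> interval_cases a
    · exact (one_rel (hc1 (i := 1) (j := 2) (by decide) x hx y hy)).1
    · exact (one_rel (hc1 (i := 1) (j := 3) (by decide) x hx y hy)).1
    · exact (one_rel (hc1 (i := 2) (j := 3) (by decide) x hx y hy)).1
    · exact (one_rel (hc1 (i := 1) (j := 4) (by decide) x hx y hy)).1
    · exact le_V S (c := 3) le_rfl (by norm_num) (r24 x hx y hy)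
    · exact (one_rel (hc1 (i := 3) (j := 4) (by decide) x hx y hy)).1
  have hW : ∀ hi, hi ≤ 5 → IsLift π (V (Xp φ) 1 hi) (V S 1 hi) := fun hi hh =>
    lift_of_rel (Xp φ) S 1 hi (fun c _ h2 => hS c (by omega))
      (fun a b h1 h2 h3 => rel14 a b h1 h2 (by omega)) (fun a _ h2 => disjoint_p φ h2 (by omega))
  -- (0, 4)
  have r04' : ∀ x ∈ S 0, ∀ y ∈ S 4, ⁅x, y⁆ ∈ V S 1 4 := by
    have hn0 : ∀ s ∈ S 0, ∀ w ∈ V S 1 4, s * w * s⁻¹ ∈ V S 1 4 := fun s hs =>
      norm_V fun c h1 h2 w hw => by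
        interval_cases c
        · exact (one_rel (hc1 (i := 0) (j := 1) (by decide) s hs w hw)).1
        · exact le_V S (c := 1) le_rfl (by norm_num) (r02 s hs w hw)
        · exact (one_rel (hc1 (i := 0) (j := 3) (by decide) s hs w hw)).1
    have hn4 : ∀ t ∈ S 4, ∀ w ∈ V S 1 4, t * w * t⁻¹ ∈ V S 1 4 := fun t ht =>
      norm_V fun c h1 h2 w hw => by
        interval_cases c
        · exact (one_rel (hc1 (i := 1) (j := 4) (by decide) w hw t ht)).2
        · exact le_V S (c := 3) (by norm_num) (by norm_num) (inv_rel (r24 w hw t ht))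
        · exact (one_rel (hc1 (i := 3) (j := 4) (by decide) w hw t ht)).2
    rcases eq_or_lt_of_le h.two_le with hq | hq
    · exact rel_zero_four_two h hz hq.symm hrange hS₀ hS₄ (hW 4 (by norm_num))
        (fun x hx y hy => comm_p φ 0 4 (by norm_num) (by norm_num) x hx y hy) hn0 hn4 hn₀ hn₄
        (fun g hg => hgV g hg (by norm_num))
    · obtain ⟨c, hcH, hc0, -, hc4⟩ := exists_fix_move h hq
      obtain ⟨g, hg⟩ := hrange hcH.2
      exact rel_of_fpf hz hS₀ hS₄ (hW 4 (by norm_num))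
        (fun x hx y hy => comm_p φ 0 4 (by norm_num) (by norm_num) x hx y hy) hn0 hn4
        (hn₀ g (hg ▸ hcH)) (hn₄ g (hg ▸ hcH)) (hgV g (hg ▸ hcH) (by norm_num))
        (fun x hx => by rw [hg]; exact fix_of_chars φ (0 : Fin 6) hc0 hx)
        (fun y hy => by rw [hg]; exact sur_of_chars φ hcH (4 : Fin 6) hc4 hy)
  -- (1, 5)
  have hW5 := hW 5 le_rfl
  have r15' : ∀ x ∈ S 1, ∀ y ∈ S 5, ⁅x, y⁆ ∈ V S 2 5 := by
    intro x hx y hy
    set W := V S 1 5 with hWdef
    have hSW : ∀ c, 1 ≤ c → c < 5 → S c ≤ W := fun c h1 h2 => le_V S h1 h2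
    let C := Subgroup.closure {c | ∃ s ∈ S 0, ∃ t ∈ S 2, c = ⁅s, t⁆}
    have hCS : C ≤ S 1 := (Subgroup.closure_le _).2 (by rintro _ ⟨s, hs, t, ht, rfl⟩; exact r02 s hs t ht)
    have hxC : x ∈ C := by
      have hle : Xp φ 1 ≤ C.map π := (one_generated h).trans ((Subgroup.closure_le _).2 (by
        rintro _ ⟨a, ha, b, hb, rfl⟩
        obtain ⟨s, hs, rfl⟩ := hS₀.exists_mem ha
        obtain ⟨t, ht, rfl⟩ := hS₂.exists_mem hb
        exact ⟨⁅s, t⁆, Subgroup.subset_closure ⟨s, hs, t, ht, rfl⟩, map_commutatorElement π s t⟩))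
      obtain ⟨c, hc, e⟩ := hle (hS₁.map_mem hx)
      rwa [hS₁.inj hx (hCS hc) e.symm]
    have hconjW : C ≤ W.comap (MulAut.conj y).toMonoidHom := by
      refine (Subgroup.closure_le _).2 ?_
      rintro _ ⟨s, hs, t, ht, rfl⟩
      show y * ⁅s, t⁆ * y⁻¹ ∈ W
      have hmem : π ⁅y, s⁆ ∈ V (Xp φ) 1 5 := by
        rw [map_commutatorElement, ← commutatorElement_inv]
        exact Subgroup.inv_mem _ (comm_p φ 0 5 (by norm_num) (by norm_num) _ (hS₀.map_mem hs) _ (hS₅.map_mem hy))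
      obtain ⟨w, hw, ew⟩ := hW5.exists_mem hmem
      have hyt : y * t * y⁻¹ = t := by
        rw [← commutatorElement_eq_one_iff_mul_comm.1 (hc1 (i := 2) (j := 5) (by decide) t ht y hy),
          mul_inv_cancel_right]
      have e : y * ⁅s, t⁆ * y⁻¹ = w * ⁅s, t⁆ * w⁻¹ * ⁅w, t⁆ := by
        calc y * ⁅s, t⁆ * y⁻¹ = ⁅y * s * y⁻¹, y * t * y⁻¹⁆ := by simp only [commutatorElement_def]; group
          _ = ⁅w * s, t⁆ := by
              rw [hyt]
              refine Schur.commutatorElement_congr hz ?_ rfl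
              rw [map_mul π w, ew, map_commutatorElement, map_mul, map_mul, map_inv, commutatorElement_def]
              group
          _ = _ := by simp only [commutatorElement_def]; group
      have ht' : t ∈ W := hSW 2 (by norm_num) (by norm_num) ht
      rw [e, commutatorElement_def w t]
      exact W.mul_mem (W.mul_mem (W.mul_mem hw (hSW 1 le_rfl (by norm_num) (r02 s hs t ht))) (W.inv_mem hw))
        (W.mul_mem (W.mul_mem (W.mul_mem hw ht') (W.inv_mem hw)) (W.inv_mem ht'))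
    have hxy : ⁅x, y⁆ ∈ W := by
      rw [show ⁅x, y⁆ = x * (y * x * y⁻¹)⁻¹ by simp only [commutatorElement_def]; group]
      exact W.mul_mem (hSW 1 le_rfl (by norm_num) hx) (W.inv_mem (hconjW hxC))
    have hmem : π ⁅x, y⁆ ∈ (V S 2 5).map π := by
      rw [map_V (Xp φ) S (fun c _ h2 => hS c (by omega)), map_commutatorElement]
      exact comm_p φ 1 5 (by norm_num) (by norm_num) _ (hS₁.map_mem hx) _ (hS₅.map_mem hy)
    obtain ⟨w, hw, e⟩ := hmem
    rwa [hW5.inj hxy (V_mono S (by norm_num) le_rfl hw) e.symm]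
  -- (0, 5)
  have r05 : ∀ x ∈ S 0, ∀ y ∈ S 5, ⁅x, y⁆ ∈ V S 1 5 := by
    have hn0 : ∀ s ∈ S 0, ∀ w ∈ V S 1 5, s * w * s⁻¹ ∈ V S 1 5 := fun s hs =>
      norm_V fun c h1 h2 w hw => by
        interval_cases c
        · exact (one_rel (hc1 (i := 0) (j := 1) (by decide) s hs w hw)).1
        · exact le_V S (c := 1) le_rfl (by norm_num) (r02 s hs w hw)
        · exact (one_rel (hc1 (i := 0) (j := 3) (by decide) s hs w hw)).1
        · exact V_mono S le_rfl (by norm_num) (r04' s hs w hw)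
    have hn5 : ∀ t ∈ S 5, ∀ w ∈ V S 1 5, t * w * t⁻¹ ∈ V S 1 5 := fun t ht =>
      norm_V fun c h1 h2 w hw => by
        interval_cases c
        · exact V_mono S (by norm_num) le_rfl (inv_rel (r15' w hw t ht))
        · exact (one_rel (hc1 (i := 2) (j := 5) (by decide) w hw t ht)).2
        · exact (one_rel (hc1 (i := 3) (j := 5) (by decide) w hw t ht)).2
        · exact (one_rel (hc1 (i := 4) (j := 5) (by decide) w hw t ht)).2
    obtain ⟨a, hN, -, hch⟩ := exists_h0 h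
    have hcH := cD_mem_H φ h.cube (a := a) (s := 1) (map_one φ)
    obtain ⟨g, hg⟩ := hrange hcH.2
    have hrel := rel_of_fpf hz hS₅ hS₀ hW5
      (fun x hx y hy => by
        rw [← commutatorElement_inv]
        exact Subgroup.inv_mem _ (comm_p φ 0 5 (by norm_num) (by norm_num) y hy x hx))
      hn5 hn0 (hn₅ g (hg ▸ hcH)) (hn₀ g (hg ▸ hcH)) (hgV g (hg ▸ hcH) (by norm_num))
      (fun x hx => by
        rw [hg]
        refine fix_of_chars φ (5 : Fin 6) (fun r hr => ?_) hx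
        simp [rootsAt] at hr
        subst hr
        refine Units.ext ?_
        rw [(chars_long φ a 1).1, hN]
        simp)
      (fun y hy => by
        rw [hg]
        refine sur_of_chars φ hcH (0 : Fin 6) (fun r hr => hch r ?_) hy
        simp [rootsAt] at hr ⊢
        tauto)
    exact fun x hx y hy => inv_rel (hrel y hy x hx)
  refine ⟨V S 0 6, V_eq_U φ ▸ lift_of_rel (Xp φ) S 0 6 (fun c _ h2 => hS c h2) ?_
    (fun a _ h2 => disjoint_p φ h2 le_rfl)⟩
  intro a b _ hab hb x hx y hy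
  by_cases hin : 1 ≤ a ∧ b < 5
  · exact rel14 a b hin.1 hab hin.2 x hx y hy
  interval_cases b <;> interval_cases a <;> try omega
  · exact (one_rel (hc1 (i := 0) (j := 1) (by decide) x hx y hy)).1
  · exact le_V S (c := 1) le_rfl (by norm_num) (r02 x hx y hy)
  · exact (one_rel (hc1 (i := 0) (j := 3) (by decide) x hx y hy)).1
  · exact r04' x hx y hy
  · exact r05 x hx y hy
  · exact r15' x hx y hy
  · exact (one_rel (hc1 (i := 2) (j := 5) (by decide) x hx y hy)).1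
  · exact (one_rel (hc1 (i := 3) (j := 5) (by decide) x hx y hy)).1
  · exact (one_rel (hc1 (i := 4) (j := 5) (by decide) x hx y hy)).1

end Cfsg.Agent.D4Stem
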