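/-
³D₄(q): stem extensions are trivial.
-/
import Cfsg.Agent.Lib.Chev.D4Stem.Split
import Cfsg.Agent.Lib.Chev.D4Stem.RankOne
import Cfsg.Agent.Lib.Schur.SL2Lift
import Cfsg.Agent.Lib.Schur.RootExt
import Cfsg.Agent.Lib.Chev.TwistOrderD4

set_option autoImplicit false

namespace Cfsg.Agent.D4Stem

open Cfsg.Lie Cfsg.Agent.Chev
open Cfsg.Agent.RootBN (Data)
open Cfsg.Agent.Chev.BNSetup (tw3D4 orbD4 orbD4_ok facts_chevD4 negTri_chevD4 graphD4_cols)
open Cfsg.Agent.D4Invol (hn hT hax)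
open scoped commutatorElement MatrixGroups

variable {K : Type*} [Field K] [Fintype K] {φ : K ≃+* K} {q : ℕ} (h : Hyp φ q)
include h

theorem card_U : Nat.card (tw3D4 φ).data.U = q ^ 12 := by
  rw [← RootBN.Twist.inf_Gt_U (hT φ), BNSetup.data_U D4.good facts_chevD4]
  refine (BNSetup.card_U_inf D4.good orbD4_ok φ facts_chevD4 negTri_chevD4 graphD4_cols
    (BNSetup.card_X'_D4 h.card h.cube h.fixed) 0).trans ?_
  rw [show ((orbD4.rootsF 12 2 (0 :: orbD4.covF 2 0)).map fun o =>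
    (orbD4.Jl 2 (orbD4.reachF 12 2 o).2).length).sum = 12 by decide +kernel]

variable {p n : ℕ} [hp : Fact p.Prime] [CharP K p] (hq : q = p ^ n) (hn1 : 1 ≤ n)
include hq hn1

omit hp [CharP K p] hn1 in
theorem isPGroup_U : IsPGroup p (tw3D4 φ).data.U :=
  IsPGroup.of_card (n := n * 12) (by rw [card_U h, hq, ← pow_mul])

omit [CharP K p] in
theorem card_Gt_eq : ∃ c, ¬ p ∣ c ∧ Nat.card (tw3D4 φ).Gt = q ^ 12 * c := by
  refine ⟨(q - 1) * (q ^ 3 - 1) * ((q + 1) * ((q ^ 3 + 1) * (q ^ 8 + q ^ 4 + 1))), fun hd => ?_, ?_⟩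
  · have h1 : 1 ≤ q := le_trans one_le_two h.two_le
    have hq0 : ((q : ℕ) : ZMod p) = 0 :=
      (ZMod.natCast_eq_zero_iff _ _).2 (hq ▸ dvd_pow_self p (by omega))
    have := (ZMod.natCast_eq_zero_iff _ _).2 hd
    push_cast [Nat.cast_sub h1, Nat.cast_sub (Nat.one_le_pow 3 q h1)] at this
    simp [hq0] at this
  · rw [BNSetup.card_twistedD4 h.card h.cube h.fixed, BNSetup.poly_twLevelsD4]
    simp only [mul_assoc]

variable {E : Type*} [Group E] [Finite E] {π : E →* GL chevD4.Idx K} (hπ : π.range = (tw3D4 φ).Gt)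
  (hz : π.ker ≤ Subgroup.center E) (hc : π.ker ≤ commutator E)
include hπ hz hc

theorem ker_eq_bot_char (hker : ∀ z ∈ π.ker, z ^ p = 1) : π.ker = ⊥ := by
  classical
  have hexp : q = 2 → ∀ z ∈ π.ker, z ^ 2 = 1 := fun hq2 z hz' => by
    have : p = 2 := (Nat.prime_dvd_prime_iff_eq hp.out Nat.prime_two).1 (hq2 ▸ hq ▸ dvd_pow_self p (by omega))
    exact this ▸ hker z hz'
  obtain ⟨S, hS⟩ := exists_lift_U h (le_of_eq hπ.symm) hz hexp
  let σ : E →* ↥(tw3D4 φ).Gt := π.codRestrict _ fun x => hπ ▸ ⟨x, rfl⟩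
  have hσ : Function.Surjective σ := fun ⟨y, hy⟩ => by
    obtain ⟨x, rfl⟩ : y ∈ π.range := hπ.symm ▸ hy
    exact ⟨x, rfl⟩
  have hk : σ.ker = π.ker := MonoidHom.ker_codRestrict π _ _
  rw [← hk] at hz hc ⊢
  refine Schur.ker_eq_bot_of_sylow σ hz hc fun l hl => ?_
  have := Fact.mk hl
  by_cases hlp : l = p
  · subst hlp
    have hUle : (tw3D4 φ).data.U ≤ (tw3D4 φ).Gt := fun u hu => by
      rw [← hπ]
      obtain ⟨s, -, rfl⟩ := hS.map_eq.ge hu
      exact ⟨s, rfl⟩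
    let U := (tw3D4 φ).data.U.subgroupOf (tw3D4 φ).Gt
    have hUp : IsPGroup l U := (isPGroup_U h hq).of_equiv (Subgroup.subgroupOfEquivOfLe hUle).symm
    have hidx : ¬ l ∣ U.index := by
      obtain ⟨c, hc', e⟩ := card_Gt_eq h hq hn1
      have hh := Subgroup.card_mul_index U
      rw [Nat.card_congr (Subgroup.subgroupOfEquivOfLe hUle).toEquiv, card_U h, e] at hh
      rw [Nat.eq_of_mul_eq_mul_left (pow_pos (lt_of_lt_of_le two_pos h.two_le) _) hh]
      exact hc'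
    obtain ⟨P, hP⟩ := Schur.exists_sylow_map_eq σ hσ (hUp.toSylow hidx)
    refine ⟨P, eq_bot_iff.2 ?_⟩
    have hS' : ∀ x ∈ (P : Subgroup E), ∃ s ∈ S, σ s = σ x := fun x hx => by
      have : σ x ∈ U := by
        have h := Subgroup.mem_map_of_mem σ hx
        rw [hP] at h
        exact h
      obtain ⟨s, hs, e⟩ := hS.map_eq.ge (this : π x ∈ (tw3D4 φ).data.U)
      exact ⟨s, hs, Subtype.ext e⟩
    have hle : ⁅(P : Subgroup E), (P : Subgroup E)⁆ ≤ S := by
      rw [Subgroup.commutator_le]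
      intro x hx y hy
      obtain ⟨s, hs, es⟩ := hS' x hx
      obtain ⟨t, ht, et⟩ := hS' y hy
      rw [Schur.commutatorElement_congr hz es.symm et.symm, commutatorElement_def]
      exact S.mul_mem (S.mul_mem (S.mul_mem hs ht) (S.inv_mem hs)) (S.inv_mem ht)
    rintro x ⟨h1, h2⟩
    exact Subgroup.mem_bot.2 (hS.eq_one (hle h1) (hk.le h2))
  · obtain ⟨P⟩ : Nonempty (Sylow l E) := inferInstance
    refine ⟨P, eq_bot_iff.2 ?_⟩
    rintro x ⟨h1, h2⟩
    obtain ⟨j, hj⟩ := P.2 ⟨x, Subgroup.commutator_le_self _ h1⟩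
    have hj' : x ^ l ^ j = 1 := by simpa using congrArg Subtype.val hj
    have := pow_gcd_eq_one.2 ⟨hker x (hk.le h2), hj'⟩
    rwa [(Nat.Coprime.pow_right j ((Nat.coprime_primes hp.out hl).2 (Ne.symm hlp))).gcd_eq_one,
      pow_one, ← Subgroup.mem_bot] at this

theorem ker_eq_bot_prime {r : ℕ} (hr : r.Prime) (hker : ∀ z ∈ π.ker, z ^ r = 1) : π.ker = ⊥ := by
  by_cases hrp : r = p
  · subst hrp; exact ker_eq_bot_char h hq hn1 hπ hz hc hker
  have := Fact.mk hr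
  obtain ⟨ψ₀, hi₀, hr₀, hn₀⟩ := rank_long φ
  obtain ⟨ψ₁, hi₁, hr₁, hn₁⟩ := rank_short φ h.cube
  refine Schur.RootExt.ker_eq_bot (hax φ) hπ hz hc hrp hker (isPGroup_U h hq) ?_ ?_ ?_ (rank_inter φ)
  · rw [eq_bot_iff]
    refine (inf_le_inf (RootBN.Twist.U'_le_U (hT φ)) inf_le_left).trans ?_
    rw [BNSetup.data_U D4.good facts_chevD4]
    exact (BNSetup.U_inf_H facts_chevD4 D4.good).le
  · exact Fin.forall_fin_two.2 ⟨hr₀.le hn₀, hr₁.le hn₁⟩
  · refine Fin.forall_fin_two.2 ⟨fun L hL hgen => ?_, fun L hL hgen => ?_⟩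
    · have : CharP ↥((φ : K →+* K).eqLocusField (RingHom.id K)) p :=
        ((φ : K →+* K).eqLocusField (RingHom.id K)).subtype.charP Subtype.val_injective p
      exact Schur.inf_ker_eq_bot_of_sl2 (p := p) hr hrp π hz hker hL hgen ψ₀ hi₀ hr₀
    · exact Schur.inf_ker_eq_bot_of_sl2 (p := p) hr hrp π hz hker hL hgen ψ₁ hi₁ hr₁

/-- Every stem extension is trivial. -/
theorem ker_eq_bot : π.ker = ⊥ := by
  classical
  by_contra hne
  obtain ⟨r, hr, hdvd⟩ := Nat.exists_prime_and_dvd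
    (fun h1 : Nat.card π.ker = 1 => hne (Subgroup.eq_bot_of_card_eq _ h1))
  have := Fact.mk hr
  obtain ⟨w, hw⟩ := exists_prime_orderOf_dvd_card' r hdvd
  have hcomm : ∀ a ∈ π.ker, ∀ b : E, Commute a b := fun a ha b => (Subgroup.mem_center_iff.1 (hz ha) b).symm
  let N : Subgroup E :=
    { carrier := {x | ∃ z ∈ π.ker, x = z ^ r}
      one_mem' := ⟨1, Subgroup.one_mem _, (one_pow r).symm⟩
      mul_mem' := by
        rintro _ _ ⟨a, ha, rfl⟩ ⟨b, hb, rfl⟩
        exact ⟨a * b, Subgroup.mul_mem _ ha hb, ((hcomm a ha b).mul_pow r).symm⟩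
      inv_mem' := by
        rintro _ ⟨a, ha, rfl⟩
        exact ⟨a⁻¹, Subgroup.inv_mem _ ha, (inv_pow a r).symm⟩ }
  have hNker : N ≤ π.ker := fun _ ⟨a, ha, e⟩ => e ▸ Subgroup.pow_mem _ ha r
  have : N.Normal := ⟨fun n hn g => by
    rwa [Subgroup.mem_center_iff.1 (hz (hNker hn)) g, mul_inv_cancel_right]⟩
  let π' : E ⧸ N →* GL chevD4.Idx K := QuotientGroup.lift N π hNker
  have hker' : ∀ z ∈ π'.ker, ∃ a ∈ π.ker, z = QuotientGroup.mk a := by
    intro z hz'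
    obtain ⟨a, rfl⟩ := QuotientGroup.mk_surjective z
    exact ⟨a, hz', rfl⟩
  have h' : π'.ker = ⊥ := by
    refine ker_eq_bot_prime h hq hn1 ?_ ?_ ?_ hr ?_
    · rw [← hπ]
      exact le_antisymm (fun y ⟨x, hx⟩ => by
        obtain ⟨a, rfl⟩ := QuotientGroup.mk_surjective x
        exact ⟨a, hx⟩) fun y ⟨x, hx⟩ => ⟨QuotientGroup.mk x, hx⟩
    · intro z hz'
      obtain ⟨a, ha, rfl⟩ := hker' z hz'
      refine Subgroup.mem_center_iff.2 fun g => ?_
      obtain ⟨b, rfl⟩ := QuotientGroup.mk_surjective g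
      rw [← QuotientGroup.mk_mul, ← QuotientGroup.mk_mul, (hcomm a ha b).eq]
    · intro z hz'
      obtain ⟨a, ha, rfl⟩ := hker' z hz'
      have hle : commutator E ≤ (commutator (E ⧸ N)).comap (QuotientGroup.mk' N) := by
        rw [← Subgroup.map_le_iff_le_comap, map_commutator_eq, commutator_def]
        exact Subgroup.commutator_mono le_top le_top
      exact hle (hc ha)
    · intro z hz'
      obtain ⟨a, ha, rfl⟩ := hker' z hz'
      rw [← QuotientGroup.mk_pow, QuotientGroup.eq_one_iff]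
      exact ⟨a, ha, rfl⟩
  have hsurj : Function.Surjective fun z : π.ker => z ^ r := by
    rintro ⟨a, ha⟩
    obtain ⟨b, hb, e⟩ : a ∈ N := by
      rw [← QuotientGroup.eq_one_iff, ← Subgroup.mem_bot, ← h']
      exact ha
    exact ⟨⟨b, hb⟩, Subtype.ext e.symm⟩
  have hinj := Finite.injective_iff_surjective.2 hsurj
  have h1 : w = 1 := hinj (show w ^ r = (1 : π.ker) ^ r by rw [one_pow, ← hw, pow_orderOf_eq_one])
  rw [h1, orderOf_one] at hw
  exact hr.ne_one hw.symm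

end Cfsg.Agent.D4Stem
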